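import Mathlib.RingTheory.Length
import Mathlib.Algebra.Module.LocalizedModule.Basic
import Mathlib.RingTheory.Localization.AtPrime.Basic
import Mathlib.RingTheory.Localization.Integer
import Mathlib.RingTheory.Ideal.Quotient.Operations
import Mathlib.LinearAlgebra.Finsupp.LinearCombination
import Mathlib.RingTheory.SimpleModule.Basic

/-!
# Free modules over quotients of localizations, and their lengths
-/

set_option autoImplicit false
set_option linter.unusedSectionVars false

universe u v w

namespace K760.Len

/-! ## Modules free over `S ⧸ J` -/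

section Free

variable {S : Type u} [CommRing S] (J : Ideal S) {V : Type v} [AddCommGroup V] [Module S V]
variable {B : Type w} (b : B → V)

/-- The map `(S/J)^(B) → V` given by a family killed by `J`. -/
noncomputable def freeMap (ha : ∀ i, ∀ s ∈ J, s • b i = 0) : (B →₀ (S ⧸ J)) →ₗ[S] V :=
  Finsupp.lsum S fun i => Submodule.liftQ J (LinearMap.toSpanSingleton S V (b i))
    (fun s hs => by rw [LinearMap.mem_ker, LinearMap.toSpanSingleton_apply]; exact ha i s hs)

lemma freeMap_mapRange (ha : ∀ i, ∀ s ∈ J, s • b i = 0) (y : B →₀ S) :
    freeMap J b ha (Finsupp.mapRange (Ideal.Quotient.mk J) (map_zero _) y) =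
      Finsupp.linearCombination S b y := by
  rw [freeMap, Finsupp.lsum_apply, Finsupp.sum_mapRange_index (fun _ => map_zero _),
    Finsupp.linearCombination_apply]
  rfl

lemma exists_mapRange (x : B →₀ (S ⧸ J)) :
    ∃ y : B →₀ S, Finsupp.mapRange (Ideal.Quotient.mk J) (map_zero _) y = x :=
  Finsupp.mapRange_surjective _ (map_zero _) Ideal.Quotient.mk_surjective x

lemma freeMap_bijective (ha : ∀ i, ∀ s ∈ J, s • b i = 0)
    (hb : ∀ y : B →₀ S, Finsupp.linearCombination S b y = 0 → ∀ i, y i ∈ J)
    (hc : ∀ v : V, v ∈ Submodule.span S (Set.range b)) : Function.Bijective (freeMap J b ha) := by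
  constructor
  · rw [injective_iff_map_eq_zero]
    intro x hx
    obtain ⟨y, rfl⟩ := exists_mapRange J x
    rw [freeMap_mapRange] at hx
    ext i
    rw [Finsupp.mapRange_apply, Finsupp.zero_apply, Ideal.Quotient.eq_zero_iff_mem]
    exact hb y hx i
  · intro v
    obtain ⟨y, hy⟩ := (Finsupp.mem_span_range_iff_exists_finsupp).1 (hc v)
    refine ⟨Finsupp.mapRange (Ideal.Quotient.mk J) (map_zero _) y, ?_⟩
    rw [freeMap_mapRange, Finsupp.linearCombination_apply]
    exact hy

/-- A module with a `J`-killed generating family independent modulo `J` is free over `S/J`. -/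
noncomputable def freeEquiv (ha : ∀ i, ∀ s ∈ J, s • b i = 0)
    (hb : ∀ y : B →₀ S, Finsupp.linearCombination S b y = 0 → ∀ i, y i ∈ J)
    (hc : ∀ v : V, v ∈ Submodule.span S (Set.range b)) : (B →₀ (S ⧸ J)) ≃ₗ[S] V :=
  LinearEquiv.ofBijective (freeMap J b ha) (freeMap_bijective J b ha hb hc)

lemma length_quotient_maximal [hJ : J.IsMaximal] : Module.length S (S ⧸ J) = 1 := by
  have : IsSimpleModule S (S ⧸ J) := isSimpleModule_iff_isCoatom.2 (Ideal.isMaximal_def.1 hJ)
  exact Module.length_eq_one _ _

end Free

/-! ## Localization -/

section Loc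

variable {R : Type u} [CommRing R] (T : Submonoid R) (q : Ideal R) [q.IsPrime]
variable {W : Type v} [AddCommGroup W] [Module R W] {B : Type w} (b : B → W)

/-- A family of `W` which is independent modulo `q` and generates up to `T`. -/
structure LocBasis : Prop where
  smul_eq_zero : ∀ i, ∀ s ∈ q, s • b i = 0
  indep : ∀ y : B →₀ R, Finsupp.linearCombination R b y = 0 → ∀ i, y i ∈ q
  span : ∀ w : W, ∃ u ∈ T, u • w ∈ Submodule.span R (Set.range b)

variable {T q b}

lemma LocBasis.mono {T' : Submonoid R} (h : LocBasis T q b) (hT : T ≤ T') : LocBasis T' q b :=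
  ⟨h.smul_eq_zero, h.indep, fun w => by
    obtain ⟨u, hu, h'⟩ := h.span w
    exact ⟨u, hT hu, h'⟩⟩

lemma LocBasis.loc_smul (h : LocBasis T q b) (i : B) (s : Localization T)
    (hs : s ∈ q.map (algebraMap R (Localization T))) :
    s • (LocalizedModule.mk (b i) (1 : T) : LocalizedModule T W) = 0 := by
  rw [Ideal.map] at hs
  induction hs using Submodule.span_induction with
  | mem x hx =>
    obtain ⟨r, hr, rfl⟩ := hx
    rw [algebraMap_smul, LocalizedModule.smul'_mk, h.smul_eq_zero i r hr, LocalizedModule.zero_mk]
  | zero => rw [zero_smul]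
  | add x y _ _ hx hy => rw [add_smul, hx, hy, add_zero]
  | smul a x _ hx => rw [smul_assoc, hx, smul_zero]

lemma LocBasis.loc_indep (h : LocBasis T q b) (hd : Disjoint (T : Set R) q)
    (y : B →₀ Localization T)
    (hy : Finsupp.linearCombination (Localization T)
      (fun i => (LocalizedModule.mk (b i) (1 : T) : LocalizedModule T W)) y = 0) (i : B) :
    y i ∈ q.map (algebraMap R (Localization T)) := by
  classical
  obtain ⟨u, hu⟩ := IsLocalization.exist_integer_multiples_of_finset T (y.support.image y)
  have hu' : ∀ i, ∃ c : R, algebraMap R (Localization T) c = (u : R) • y i := by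
    intro i
    by_cases hi : i ∈ y.support
    · obtain ⟨c, hc⟩ := hu (y i) (Finset.mem_image_of_mem _ hi)
      exact ⟨c, hc⟩
    · rw [Finsupp.notMem_support_iff] at hi
      exact ⟨0, by rw [hi, map_zero, smul_zero]⟩
  choose c hc using hu'
  let z : B →₀ R := Finsupp.onFinset y.support (fun i => if i ∈ y.support then c i else 0)
    (fun i hi => by
      by_contra h'
      exact hi (if_neg h'))
  have hz : ∀ i, algebraMap R (Localization T) (z i) = (u : R) • y i := by
    intro i
    change algebraMap R (Localization T) (if i ∈ y.support then c i else 0) = _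
    split_ifs with h'
    · exact hc i
    · rw [Finsupp.notMem_support_iff] at h'
      rw [h', map_zero, smul_zero]
  have h1 : (LocalizedModule.mk (Finsupp.linearCombination R b z) (1 : T) : LocalizedModule T W)
      = 0 := by
    have h2 : (LocalizedModule.mkLinearMap T W) (Finsupp.linearCombination R b z) =
        (u : R) • Finsupp.linearCombination (Localization T)
      (fun i => (LocalizedModule.mk (b i) (1 : T) : LocalizedModule T W)) y := by
      rw [Finsupp.linearCombination_apply, Finsupp.linearCombination_apply,
        Finsupp.sum_of_support_subset z (Finsupp.support_onFinset_subset) _ (by simp),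
        Finsupp.sum, map_sum, Finset.smul_sum]
      refine Finset.sum_congr rfl fun i _ => ?_
      rw [map_smul, ← smul_assoc, ← hz i, algebraMap_smul]
      rfl
    rw [hy, smul_zero] at h2
    exact h2
  rw [← LocalizedModule.zero_mk (1 : T), LocalizedModule.mk_eq] at h1
  obtain ⟨v, hv⟩ := h1
  simp only [one_smul, smul_zero] at hv
  have h3 : Finsupp.linearCombination R b ((v : R) • z) = 0 := by
    rw [map_smul]; exact hv
  have h4 := h.indep _ h3 i
  rw [Finsupp.smul_apply, smul_eq_mul] at h4
  have hvq : (v : R) ∉ q := fun h' => Set.disjoint_left.1 hd v.2 h'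
  have h5 := (Ideal.IsPrime.mem_or_mem ‹_› h4).resolve_left hvq
  have h6 : (u : R) • y i ∈ q.map (algebraMap R (Localization T)) := by
    rw [← hz i]; exact Ideal.mem_map_of_mem _ h5
  rw [Algebra.smul_def] at h6
  exact (Ideal.unit_mul_mem_iff_mem _ (IsLocalization.map_units (Localization T) u)).1 h6

lemma LocBasis.loc_span (h : LocBasis T q b) (x : LocalizedModule T W) :
    x ∈ Submodule.span (Localization T)
      (Set.range fun i => (LocalizedModule.mk (b i) (1 : T) : LocalizedModule T W)) := by
  induction x using LocalizedModule.induction_on with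
  | _ w t =>
    obtain ⟨u, hu, huw⟩ := h.span w
    obtain ⟨z, hz⟩ := (Finsupp.mem_span_range_iff_exists_finsupp).1 huw
    have h1 : (LocalizedModule.mk (u • w) (1 : T) : LocalizedModule T W) ∈
        Submodule.span (Localization T)
      (Set.range fun i => (LocalizedModule.mk (b i) (1 : T) : LocalizedModule T W)) := by
      change LocalizedModule.mkLinearMap T W (u • w) ∈ _
      rw [← hz, Finsupp.sum, map_sum]
      refine Submodule.sum_mem _ fun i _ => ?_
      rw [map_smul, ← algebraMap_smul (Localization T)]
      exact Submodule.smul_mem _ _ (Submodule.subset_span ⟨i, rfl⟩)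
    have h2 : (LocalizedModule.mk w t : LocalizedModule T W) =
        (Localization.mk 1 (t * ⟨u, hu⟩) : Localization T) •
          (LocalizedModule.mk (u • w) (1 : T) : LocalizedModule T W) := by
      rw [LocalizedModule.mk_smul_mk, one_smul, mul_one, LocalizedModule.mk_eq]
      refine ⟨1, ?_⟩
      simp only [one_smul]
      change (t * ⟨u, hu⟩ : T) • w = t • (u • w)
      rw [mul_smul]
      rfl
    rw [h2]
    exact Submodule.smul_mem _ _ h1

/-- The localization of `W` is free over the localization of `R/q`, with basis `b`. -/
noncomputable def LocBasis.equiv (h : LocBasis T q b) (hd : Disjoint (T : Set R) q) :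
    (B →₀ (Localization T ⧸ q.map (algebraMap R (Localization T)))) ≃ₗ[Localization T]
      LocalizedModule T W :=
  freeEquiv _ _ h.loc_smul (h.loc_indep hd) h.loc_span

/-- The length at the prime `q` itself. -/
theorem LocBasis.length_eq (h : LocBasis q.primeCompl q b) :
    Module.length (Localization.AtPrime q) (LocalizedModule q.primeCompl W) = ENat.card B := by
  have hd : Disjoint (q.primeCompl : Set R) q := by
    rw [Set.disjoint_left]; intro x hx hx'; exact hx hx'
  rw [← (h.equiv hd).length_eq, Module.length_finsupp]
  have hm : (q.map (algebraMap R (Localization.AtPrime q))).IsMaximal := by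
    rw [Localization.AtPrime.map_eq_maximalIdeal]; infer_instance
  rw [length_quotient_maximal, mul_one]

end Loc

end K760.Len
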