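import Groth.Prelude.Def_GrLC2
import Groth.Agent.Sga2.ExtLoc
import Groth.Agent.GrLC.K760.Len

/-!
# Bass numbers as lengths of localized `Ext` modules
-/

set_option autoImplicit false
set_option linter.unusedSectionVars false

universe u

open CategoryTheory CategoryTheory.Abelian

namespace K760.ExtLen

open Groth.Agent.Sga2.ExtLoc

section Congr

variable {A : Type u} [CommRing A]

/-- Linear equivalence of `Ext` modules induced by isomorphisms. -/
noncomputable def extCongr {N N' M M' : ModuleCat.{u} A} (e : N ≅ N') (e' : M ≅ M') (j : ℕ) :
    Ext.{u} N M j ≃ₗ[A] Ext.{u} N' M' j where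
  toFun x := ((Ext.mk₀ e.inv).comp x (zero_add j)).comp (Ext.mk₀ e'.hom) (add_zero j)
  invFun x := ((Ext.mk₀ e.hom).comp x (zero_add j)).comp (Ext.mk₀ e'.inv) (add_zero j)
  map_add' x y := by simp
  map_smul' r x := by simp
  left_inv x := by simp
  right_inv x := by simp

end Congr

variable {R : Type u} [CommRing R] (S : Submonoid R)

section

variable (N M : ModuleCat.{u} R) (j : ℕ)

/-- The `Ext` module over the localization, as an `R`-module. -/
def X : Type u := Ext.{u} ((L S).obj N) ((L S).obj M) j

noncomputable instance : AddCommGroup (X S N M j) :=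
  inferInstanceAs (AddCommGroup (Ext.{u} ((L S).obj N) ((L S).obj M) j))

noncomputable instance : Module (Localization S) (X S N M j) :=
  inferInstanceAs (Module (Localization S) (Ext.{u} ((L S).obj N) ((L S).obj M) j))

noncomputable instance : Module R (X S N M j) :=
  Module.compHom (X S N M j) (algebraMap R (Localization S))

instance : IsScalarTower R (Localization S) (X S N M j) where
  smul_assoc r s x := by
    rw [Algebra.smul_def]
    exact mul_smul (algebraMap R (Localization S) r) s x

lemma smul_X (r : R) (x : X S N M j) : r • x = algebraMap R (Localization S) r • x := rfl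

/-- The localization map on `Ext`. -/
noncomputable def locMap : Ext.{u} N M j →ₗ[R] X S N M j where
  toFun x := x.mapExactFunctor (L S)
  map_add' x y := by
    have := map_add ((L S).mapExtAddHom N M j) x y
    simp only [Functor.mapExtAddHom_apply] at this
    exact this
  map_smul' r x := mapExt_smul S r x

lemma isLocalizedModule [IsNoetherianRing R] [Module.Finite R N] :
    IsLocalizedModule S (locMap S N M j) := by
  have h := locExt S M j N
  constructor
  · intro s
    rw [Module.End.isUnit_iff]
    obtain ⟨v, hv⟩ := IsLocalization.map_units (Localization S) s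
    constructor
    · intro x y hxy
      simp only [Module.algebraMap_end_apply] at hxy
      rw [smul_X, smul_X, ← hv] at hxy
      have := congrArg (fun z => (↑v⁻¹ : Localization S) • z) hxy
      simpa [smul_smul] using this
    · intro x
      refine ⟨(↑v⁻¹ : Localization S) • x, ?_⟩
      simp only [Module.algebraMap_end_apply]
      rw [smul_X, ← hv, smul_smul, Units.mul_inv, one_smul]
  · intro y
    obtain ⟨s, x, hx⟩ := h.surj y
    exact ⟨(x, s), hx.symm⟩
  · intro x y hxy
    obtain ⟨s, hs⟩ := h.inj (x - y) (by
      have := map_sub (locMap S N M j) x y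
      rw [hxy, sub_self] at this
      exact this)
    refine ⟨s, ?_⟩
    rw [smul_sub, sub_eq_zero] at hs
    exact hs

/-- `Ext` commutes with localization. -/
noncomputable def extLocEquiv [IsNoetherianRing R] [Module.Finite R N] :
    LocalizedModule S (Ext.{u} N M j) ≃ₗ[Localization S]
      Ext.{u} ((L S).obj N) ((L S).obj M) j :=
  haveI := isLocalizedModule S N M j
  (IsLocalizedModule.iso S (locMap S N M j)).extendScalarsOfIsLocalization S (Localization S)

end

/-- `Ext` commutes with localization, in terms of `LocalizedModule`. -/
noncomputable def extLocEquiv' [IsNoetherianRing R] (N : Type u) [AddCommGroup N] [Module R N]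
    [Module.Finite R N] (M : Type u) [AddCommGroup M] [Module R M] (j : ℕ) :
    LocalizedModule S (Ext.{u} (ModuleCat.of R N) (ModuleCat.of R M) j) ≃ₗ[Localization S]
      Ext.{u} (ModuleCat.of (Localization S) (LocalizedModule S N))
        (ModuleCat.of (Localization S) (LocalizedModule S M)) j :=
  (extLocEquiv S (ModuleCat.of R N) (ModuleCat.of R M) j).trans
    (extCongr (objEquiv S N).toModuleIso (objEquiv S M).toModuleIso j)

/-- `(R/q)_S = R_S/qR_S`. -/
noncomputable def quotEquiv (q : Ideal R) [q.IsPrime] (hd : Disjoint (S : Set R) q) :
    LocalizedModule S (R ⧸ q) ≃ₗ[Localization S]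
      (Localization S ⧸ q.map (algebraMap R (Localization S))) :=
  have h : Len.LocBasis S q (fun _ : Unit => (1 : R ⧸ q)) :=
    { smul_eq_zero := fun _ s hs => by
        rw [Algebra.smul_def, mul_one]
        exact Ideal.Quotient.eq_zero_iff_mem.2 hs
      indep := fun y hy i => by
        rw [Finsupp.linearCombination_unique, Algebra.smul_def, mul_one] at hy
        exact Ideal.Quotient.eq_zero_iff_mem.1 hy
      span := fun w => by
        refine ⟨1, S.one_mem, ?_⟩
        obtain ⟨r, rfl⟩ := Ideal.Quotient.mk_surjective w
        rw [one_smul]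
        have : Ideal.Quotient.mk q r = r • (1 : R ⧸ q) := by
          rw [Algebra.smul_def, mul_one]; rfl
        rw [this]
        exact Submodule.smul_mem _ _ (Submodule.subset_span ⟨(), rfl⟩) }
  (h.equiv hd).symm.trans (Finsupp.uniqueLinearEquiv _ _ ())

section

variable (p : Ideal R) [p.IsPrime]

lemma disjoint_primeCompl : Disjoint (p.primeCompl : Set R) p := by
  rw [Set.disjoint_left]; intro x hx hx'; exact hx hx'

/-- The localization of `R/p` at `p` is the residue field. -/
noncomputable def residueEquiv : LocalizedModule p.primeCompl (R ⧸ p) ≃ₗ[Localization.AtPrime p]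
    IsLocalRing.ResidueField (Localization.AtPrime p) :=
  (quotEquiv p.primeCompl p (disjoint_primeCompl p)).trans
    (Submodule.quotEquivOfEq _ _ (Localization.AtPrime.map_eq_maximalIdeal (I := p)))

/-- The Bass number `μ^j(p, M)` is the length of the localization of `Ext^j_R(R/p, M)` at `p`. -/
theorem bassNum_eq [IsNoetherianRing R] (M : Type u) [AddCommGroup M] [Module R M] (j : ℕ) :
    GrLC.bassNum p M j = Module.length (Localization.AtPrime p)
      (LocalizedModule p.primeCompl
        (Ext.{u} (ModuleCat.of R (R ⧸ p)) (ModuleCat.of R M) j)) := by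
  rw [GrLC.bassNum, GrLC.bassNumLocal]
  exact ((extLocEquiv' p.primeCompl (R ⧸ p) M j).trans
    (extCongr (residueEquiv p).toModuleIso (Iso.refl _) j)).length_eq.symm

end

end K760.ExtLen
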