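import Groth.Agent.GrLC.K760.Gr
import Mathlib.Algebra.MonoidAlgebra.Basic
import Mathlib.LinearAlgebra.FreeModule.PID
import Mathlib.LinearAlgebra.FreeModule.Basic
import Mathlib.RingTheory.PrincipalIdealDomain
import Mathlib.RingTheory.Noetherian.Basic
import Mathlib.Algebra.EuclideanDomain.Int
import Mathlib.RingTheory.GradedAlgebra.Homogeneous.Ideal

/-!
# *Simple graded rings are group algebras
-/

set_option autoImplicit false
set_option linter.unusedSectionVars false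

universe u

open DirectSum

namespace K760.Simple

open K760.Gr

variable {ι : Type} [AddCommGroup ι] [DecidableEq ι]
variable {R : Type u} [CommRing R] (𝒜 : ι → AddSubgroup R) [GradedRing 𝒜]

/-- Every nonzero homogeneous element has a homogeneous inverse. -/
def HomInv : Prop := ∀ d : ι, ∀ a ∈ 𝒜 d, a ≠ 0 → ∃ b ∈ 𝒜 (-d), b * a = 1

variable {𝒜}

lemma homInv_of_isSimpleOrder (h : IsSimpleOrder (HomogeneousIdeal 𝒜)) : HomInv 𝒜 := by
  intro d a ha ha0
  let I : HomogeneousIdeal 𝒜 := ⟨Ideal.span {a}, Ideal.homogeneous_span 𝒜 _ (by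
    rintro _ rfl; exact ⟨d, ha⟩)⟩
  have haI : a ∈ I.toIdeal := Ideal.mem_span_singleton_self a
  have hI : I = ⊤ := by
    rcases h.eq_bot_or_eq_top I with h' | h'
    · exfalso
      rw [h'] at haI
      exact ha0 (by simpa using haI)
    · exact h'
  have h1 : (1 : R) ∈ I.toIdeal := by rw [hI]; trivial
  obtain ⟨b, hb⟩ := Ideal.mem_span_singleton'.1 h1
  refine ⟨rpr 𝒜 (-d) b, rpr_mem 𝒜 _ b, ?_⟩
  have h2 : pr 𝒜 0 (b • a) = rpr 𝒜 (0 - d) b • a := pr_smul_of_mem (𝒜 := 𝒜) 𝒜 ha 0 b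
  rw [smul_eq_mul, hb, zero_sub] at h2
  rw [← smul_eq_mul, ← h2]
  exact pr_of_mem (ℳ := 𝒜) (SetLike.one_mem_graded 𝒜)

lemma isSimpleOrder_of_homInv [Nontrivial R] (h : HomInv 𝒜) :
    IsSimpleOrder (HomogeneousIdeal 𝒜) where
  exists_pair_ne := ⟨⊥, ⊤, fun h' => by
    have : (1 : R) ∈ (⊥ : HomogeneousIdeal 𝒜).toIdeal := by rw [h']; trivial
    simp at this⟩
  eq_bot_or_eq_top I := by
    by_cases hI : ∃ d, ∃ a ∈ 𝒜 d, a ≠ 0 ∧ a ∈ I.toIdeal
    · right
      obtain ⟨d, a, ha, ha0, haI⟩ := hI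
      obtain ⟨b, hb, hba⟩ := h d a ha ha0
      rw [HomogeneousIdeal.eq_top_iff, Ideal.eq_top_iff_one, ← hba]
      exact Ideal.mul_mem_left _ _ haI
    · left
      push Not at hI
      rw [HomogeneousIdeal.eq_bot_iff, eq_bot_iff]
      intro x hx
      rw [Ideal.mem_bot]
      apply eq_zero_of_rpr (𝒜 := 𝒜)
      intro g
      by_contra h0
      exact hI g _ (rpr_mem 𝒜 g x) h0 (I.isHomogeneous g hx)

section Coeff

variable {K : Type u} [CommRing K] {G' : AddSubgroup ι} (φ : AddMonoidAlgebra K G' →+ R)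
  (hφ : ∀ (g : G') (k : K), φ (AddMonoidAlgebra.single g k) ∈ 𝒜 (g : ι))

include hφ in
lemma rpr_map (x : AddMonoidAlgebra K G') (g : G') :
    rpr 𝒜 (g : ι) (φ x) = φ (AddMonoidAlgebra.single g (x.coeff g)) := by
  classical
  induction x using AddMonoidAlgebra.induction_linear with
  | zero => simp
  | add x y hx hy => simp [hx, hy]
  | single m r =>
    by_cases hm : m = g
    · subst hm
      rw [rpr_of_mem (hφ m r)]
      simp
    · rw [rpr_of_mem_ne (hφ m r) (fun h => hm (Subtype.ext h))]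
      simp [hm]

include hφ in
lemma rpr_map_of_notMem (x : AddMonoidAlgebra K G') {d : ι} (hd : d ∉ G') :
    rpr 𝒜 d (φ x) = 0 := by
  classical
  induction x using AddMonoidAlgebra.induction_linear with
  | zero => simp
  | add x y hx hy => simp [hx, hy]
  | single m r => exact rpr_of_mem_ne (hφ m r) (fun h => hd (h ▸ m.2))

end Coeff

section Struct

variable (h : HomInv 𝒜) [Nontrivial R]

/-- The degrees of nonzero homogeneous elements. -/
def degs : AddSubgroup ι where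
  carrier := {g | ∃ a ∈ 𝒜 g, a ≠ 0}
  zero_mem' := ⟨1, SetLike.one_mem_graded 𝒜, one_ne_zero⟩
  add_mem' := by
    rintro g g' ⟨a, ha, ha0⟩ ⟨a', ha', ha0'⟩
    refine ⟨a * a', SetLike.mul_mem_graded ha ha', fun h0 => ha0' ?_⟩
    obtain ⟨b, _, hb⟩ := h g a ha ha0
    calc a' = b * a * a' := by rw [hb, one_mul]
      _ = 0 := by rw [mul_assoc, h0, mul_zero]
  neg_mem' := by
    rintro g ⟨a, ha, ha0⟩
    obtain ⟨b, hb, hba⟩ := h g a ha ha0
    refine ⟨b, hb, fun h0 => ?_⟩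
    rw [h0, zero_mul] at hba
    exact zero_ne_one hba

lemma mem_degs {g : ι} : g ∈ degs h ↔ ∃ a ∈ 𝒜 g, a ≠ 0 := Iff.rfl

lemma exists_unit (g : degs h) : ∃ v : Rˣ, (v : R) ∈ 𝒜 (g : ι) ∧ ((v⁻¹ : Rˣ) : R) ∈ 𝒜 (-(g : ι)) := by
  obtain ⟨g, a, ha, ha0⟩ := g
  obtain ⟨b, hb, hba⟩ := h g a ha ha0
  exact ⟨⟨a, b, by rw [mul_comm]; exact hba, hba⟩, ha, hb⟩

lemma exists_char [Module.Free ℤ ι] [Module.Finite ℤ ι] :
    ∃ χ : degs h →+ Additive Rˣ, ∀ g : degs h, ((χ g).toMul : R) ∈ 𝒜 (g : ι) ∧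
      (((χ g).toMul⁻¹ : Rˣ) : R) ∈ 𝒜 (-(g : ι)) := by
  classical
  have : Module.Finite ℤ (degs h) :=
    inferInstanceAs (Module.Finite ℤ (AddSubgroup.toIntSubmodule (degs h)))
  have : Module.IsTorsionFree ℤ (degs h) :=
    inferInstanceAs (Module.IsTorsionFree ℤ (AddSubgroup.toIntSubmodule (degs h)))
  have : Module.Free ℤ (degs h) := Module.free_of_finite_type_torsion_free'
  let β := Module.Free.chooseBasis ℤ (degs h)
  choose v hv using exists_unit h
  let χ : degs h →ₗ[ℤ] Additive Rˣ := β.constr ℤ (fun k => Additive.ofMul (v (β k)))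
  refine ⟨χ.toAddMonoidHom, fun g => ?_⟩
  have hg : g ∈ Submodule.span ℤ (Set.range β) := by rw [β.span_eq]; trivial
  change ((χ g).toMul : R) ∈ 𝒜 (g : ι) ∧ (((χ g).toMul⁻¹ : Rˣ) : R) ∈ 𝒜 (-(g : ι))
  induction hg using Submodule.span_induction with
  | mem x hx =>
    obtain ⟨k, rfl⟩ := hx
    rw [Module.Basis.constr_basis]
    exact hv (β k)
  | zero =>
    rw [map_zero]
    simp only [toMul_zero, Units.val_one, inv_one, ZeroMemClass.coe_zero, neg_zero]
    exact ⟨SetLike.one_mem_graded 𝒜, SetLike.one_mem_graded 𝒜⟩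
  | add x y _ _ hx hy =>
    rw [map_add]
    simp only [toMul_add, Units.val_mul, mul_inv_rev, AddSubgroup.coe_add, neg_add_rev]
    refine ⟨SetLike.mul_mem_graded hx.1 hy.1, SetLike.mul_mem_graded hy.2 hx.2⟩
  | smul n x _ hx =>
    rw [map_smul]
    simp only [toMul_zsmul, AddSubgroup.coe_zsmul]
    have key : ∀ m : ℕ, (((χ x).toMul ^ m : Rˣ) : R) ∈ 𝒜 (m • (x : ι)) ∧
        ((((χ x).toMul ^ m)⁻¹ : Rˣ) : R) ∈ 𝒜 (-(m • (x : ι))) := by
      intro m
      constructor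
      · rw [Units.val_pow_eq_pow_val]
        exact SetLike.pow_mem_graded m hx.1
      · rw [← inv_pow, Units.val_pow_eq_pow_val, ← smul_neg]
        exact SetLike.pow_mem_graded m hx.2
    obtain ⟨m, rfl | rfl⟩ := n.eq_nat_or_neg
    · simpa using key m
    · have := key m
      rw [zpow_neg, zpow_natCast, inv_inv, neg_smul, natCast_zsmul, neg_neg]
      exact ⟨this.2, this.1⟩

theorem exists_equiv [Module.Free ℤ ι] [Module.Finite ℤ ι] :
    ∃ (φ : AddMonoidAlgebra (GrLC.deg0 𝒜) (degs h) ≃+* R),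
      ∀ (g : degs h) (k : GrLC.deg0 𝒜), φ (AddMonoidAlgebra.single g k) ∈ 𝒜 (g : ι) := by
  classical
  obtain ⟨χ, hχ⟩ := exists_char h
  let c : Multiplicative (degs h) →* R :=
    { toFun g := ((χ g.toAdd).toMul : R)
      map_one' := by simp
      map_mul' x y := by simp }
  let φ : AddMonoidAlgebra (GrLC.deg0 𝒜) (degs h) →ₐ[GrLC.deg0 𝒜] R :=
    AddMonoidAlgebra.lift (GrLC.deg0 𝒜) R (degs h) c
  have hφ : ∀ (g : degs h) (k : GrLC.deg0 𝒜),
      φ (AddMonoidAlgebra.single g k) = (k : R) * ((χ g).toMul : R) := by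
    intro g k
    rw [AddMonoidAlgebra.lift_single]
    rfl
  have hmem : ∀ (g : degs h) (k : GrLC.deg0 𝒜),
      φ (AddMonoidAlgebra.single g k) ∈ 𝒜 (g : ι) := by
    intro g k
    rw [hφ]
    have := SetLike.mul_mem_graded (A := 𝒜) (show (k : R) ∈ 𝒜 0 from k.2) (hχ g).1
    rwa [zero_add] at this
  have hbij : Function.Bijective φ := by
    constructor
    · rw [injective_iff_map_eq_zero]
      intro x hx
      ext g
      have h1 := rpr_map (φ := (φ : _ →+ R)) hmem x g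
      simp only [AddMonoidHom.coe_coe] at h1
      rw [hx, map_zero, hφ] at h1
      have h2 := congrArg (fun z => z * (((χ g).toMul⁻¹ : Rˣ) : R)) h1
      simp only [zero_mul, mul_assoc, Units.mul_inv, mul_one] at h2
      exact h2.symm
    · intro y
      refine ring_induction (𝒜 := 𝒜) ⟨0, map_zero _⟩ ?_ ?_ y
      · intro g a ha
        by_cases ha0 : a = 0
        · exact ⟨0, by rw [map_zero, ha0]⟩
        · let g' : degs h := ⟨g, a, ha, ha0⟩
          refine ⟨AddMonoidAlgebra.single g' ⟨a * (((χ g').toMul⁻¹ : Rˣ) : R), ?_⟩, ?_⟩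
          · have := SetLike.mul_mem_graded (A := 𝒜) ha (hχ g').2
            rwa [add_neg_cancel] at this
          · rw [hφ]
            change a * (((χ g').toMul⁻¹ : Rˣ) : R) * ((χ g').toMul : R) = a
            rw [mul_assoc, Units.inv_mul, mul_one]
      · rintro _ _ ⟨x, rfl⟩ ⟨y, rfl⟩
        exact ⟨x + y, map_add _ _ _⟩
  exact ⟨RingEquiv.ofBijective φ hbij, hmem⟩

end Struct

/-- Conversely a group algebra over a field is *simple. -/
theorem homInv_of_equiv (hK : IsField (GrLC.deg0 𝒜)) (G' : AddSubgroup ι)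
    (φ : AddMonoidAlgebra (GrLC.deg0 𝒜) G' ≃+* R)
    (hφ : ∀ (g : G') (k : GrLC.deg0 𝒜), φ (AddMonoidAlgebra.single g k) ∈ 𝒜 (g : ι)) :
    HomInv 𝒜 := by
  intro d a ha ha0
  obtain ⟨x, rfl⟩ := φ.surjective a
  by_cases hd : d ∈ G'
  · have h1 := rpr_map (φ := (φ : _ →+ R)) hφ x ⟨d, hd⟩
    have h2 : rpr 𝒜 d (φ x) = φ (AddMonoidAlgebra.single ⟨d, hd⟩ (x.coeff ⟨d, hd⟩)) := h1
    rw [rpr_of_mem ha] at h2
    have hk : x.coeff ⟨d, hd⟩ ≠ 0 := by
      intro h0
      rw [h0] at h2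
      exact ha0 (by rw [h2]; simp)
    obtain ⟨k, hk'⟩ := hK.mul_inv_cancel hk
    refine ⟨φ (AddMonoidAlgebra.single (-⟨d, hd⟩) k), hφ (-⟨d, hd⟩) k, ?_⟩
    rw [h2, ← map_mul, AddMonoidAlgebra.single_mul_single, neg_add_cancel, mul_comm k, hk',
      ← AddMonoidAlgebra.one_def, map_one]
  · exfalso
    have h1 : rpr 𝒜 d (φ x) = 0 := rpr_map_of_notMem (φ := (φ : _ →+ R)) hφ x hd
    rw [rpr_of_mem ha] at h1
    exact ha0 h1

theorem isField_deg0 (h : HomInv 𝒜) [Nontrivial R] : IsField (GrLC.deg0 𝒜) where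
  exists_pair_ne := ⟨0, 1, fun h' => zero_ne_one (congrArg Subtype.val h')⟩
  mul_comm := mul_comm
  mul_inv_cancel {a} ha := by
    obtain ⟨b, hb, hba⟩ := h 0 a a.2 (fun h' => ha (Subtype.ext h'))
    rw [neg_zero] at hb
    exact ⟨⟨b, hb⟩, Subtype.ext (by rw [mul_comm] at hba; exact hba)⟩

end K760.Simple
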