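import Groth.Agent.GrLC.K760.GrLoc
import Groth.Agent.GrLC.K760.Simple
import Groth.Agent.Sga3B.DiagSmooth
import Groth.Agent.CalgB.AdicRegField
import Groth.Agent.Ega4A.QuotLoc
import Mathlib.RingTheory.Localization.LocalizationLocalization
import Mathlib.RingTheory.RegularLocalRing.Defs
import Mathlib.RingTheory.Ideal.Height
import Mathlib.RingTheory.Smooth.Basic

/-!
# Regularity of `(R/p*)_p`
-/

set_option autoImplicit false
set_option linter.unusedSectionVars false
set_option linter.unusedVariables false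
set_option linter.style.haveILetI false

universe u

open DirectSum

namespace K760.CoreReg

open K760.Gr K760.Simple K760.GrLoc

variable {ι : Type} [AddCommGroup ι] [DecidableEq ι] [Module.Free ℤ ι] [Module.Finite ℤ ι]

section Simple

variable {B : Type u} [CommRing B] (ℬ : ι → AddSubgroup B) [GradedRing ℬ]

theorem exists_algEquiv (h : HomInv ℬ) [Nontrivial B] :
    Nonempty (AddMonoidAlgebra (GrLC.deg0 ℬ) (degs h) ≃ₐ[GrLC.deg0 ℬ] B) := by
  classical
  obtain ⟨χ, hχ⟩ := exists_char h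
  let c : Multiplicative (degs h) →* B :=
    { toFun g := ((χ g.toAdd).toMul : B)
      map_one' := by simp
      map_mul' x y := by simp }
  let φ : AddMonoidAlgebra (GrLC.deg0 ℬ) (degs h) →ₐ[GrLC.deg0 ℬ] B :=
    AddMonoidAlgebra.lift (GrLC.deg0 ℬ) B (degs h) c
  have hφ : ∀ (g : degs h) (k : GrLC.deg0 ℬ),
      φ (AddMonoidAlgebra.single g k) = (k : B) * ((χ g).toMul : B) := by
    intro g k
    rw [AddMonoidAlgebra.lift_single]
    rfl
  have hmem : ∀ (g : degs h) (k : GrLC.deg0 ℬ),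
      φ (AddMonoidAlgebra.single g k) ∈ ℬ (g : ι) := by
    intro g k
    rw [hφ]
    have := SetLike.mul_mem_graded (A := ℬ) (show (k : B) ∈ ℬ 0 from k.2) (hχ g).1
    rwa [zero_add] at this
  have hbij : Function.Bijective φ := by
    constructor
    · rw [injective_iff_map_eq_zero]
      intro x hx
      ext g
      have h1 := rpr_map (φ := (φ : _ →+ B)) hmem x g
      simp only [AddMonoidHom.coe_coe] at h1
      rw [hx, map_zero, hφ] at h1
      have h2 := congrArg (fun z => z * (((χ g).toMul⁻¹ : Bˣ) : B)) h1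
      simp only [zero_mul, mul_assoc, Units.mul_inv, mul_one] at h2
      exact h2.symm
    · intro y
      refine ring_induction (𝒜 := ℬ) ⟨0, map_zero _⟩ ?_ ?_ y
      · intro g a ha
        by_cases ha0 : a = 0
        · exact ⟨0, by rw [map_zero, ha0]⟩
        · let g' : degs h := ⟨g, a, ha, ha0⟩
          refine ⟨AddMonoidAlgebra.single g' ⟨a * (((χ g').toMul⁻¹ : Bˣ) : B), ?_⟩, ?_⟩
          · have := SetLike.mul_mem_graded (A := ℬ) ha (hχ g').2
            rwa [add_neg_cancel] at this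
          · rw [hφ]
            change a * (((χ g').toMul⁻¹ : Bˣ) : B) * ((χ g').toMul : B) = a
            rw [mul_assoc, Units.inv_mul, mul_one]
      · rintro _ _ ⟨x, rfl⟩ ⟨y, rfl⟩
        exact ⟨x + y, map_add _ _ _⟩
  exact ⟨AlgEquiv.ofBijective φ hbij⟩

lemma formallySmooth (h : HomInv ℬ) [Nontrivial B] : Algebra.FormallySmooth (GrLC.deg0 ℬ) B := by
  obtain ⟨e⟩ := exists_algEquiv ℬ h
  have : Module.Finite ℤ (degs h) :=
    inferInstanceAs (Module.Finite ℤ (AddSubgroup.toIntSubmodule (degs h)))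
  have : Module.IsTorsionFree ℤ (degs h) :=
    inferInstanceAs (Module.IsTorsionFree ℤ (AddSubgroup.toIntSubmodule (degs h)))
  have : Module.Free ℤ (degs h) := Module.free_of_finite_type_torsion_free'
  have h1 : Algebra.FormallySmooth (GrLC.deg0 ℬ)
      (MonoidAlgebra (GrLC.deg0 ℬ) (Multiplicative (degs h))) := inferInstance
  exact Algebra.FormallySmooth.of_equiv
    ((AddMonoidAlgebra.toMultiplicativeAlgEquiv (GrLC.deg0 ℬ) (GrLC.deg0 ℬ) (degs h)).symm.trans e)

theorem isRegularLocalRing (h : HomInv ℬ) [Nontrivial B] [IsNoetherianRing B] (P : Ideal B)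
    [P.IsPrime] : IsRegularLocalRing (Localization.AtPrime P) := by
  have hK := isField_deg0 h
  letI : Field (GrLC.deg0 ℬ) := hK.toField
  have h1 : Algebra.FormallySmooth (GrLC.deg0 ℬ) B := formallySmooth ℬ h
  have h2 : Algebra.FormallySmooth B (Localization.AtPrime P) :=
    Algebra.FormallySmooth.of_isLocalization P.primeCompl
  have h3 : Algebra.FormallySmooth (GrLC.deg0 ℬ) (Localization.AtPrime P) :=
    Algebra.FormallySmooth.comp _ B _
  apply Groth.Agent.CalgB.AdicRegField.isRegularLocalRing_of_isAdicFormallySmooth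
    (k := GrLC.deg0 ℬ)
  intro A _ _ J hJ ψ _
  exact Algebra.FormallySmooth.comp_surjective _ _ J hJ ψ

end Simple

section Core

variable {A : Type u} [CommRing A] [IsDomain A] (𝒜 : ι → AddSubgroup A) [GradedRing 𝒜]

/-- The nonzero homogeneous elements of a graded domain. -/
def homElems : Submonoid A where
  carrier := {a | a ≠ 0 ∧ ∃ d, a ∈ 𝒜 d}
  one_mem' := ⟨one_ne_zero, 0, SetLike.one_mem_graded 𝒜⟩
  mul_mem' := by
    rintro a b ⟨ha, d, hd⟩ ⟨hb, e, he⟩
    exact ⟨mul_ne_zero ha hb, d + e, SetLike.mul_mem_graded hd he⟩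

lemma homElems_hom : ∀ h ∈ homElems 𝒜, ∃ d, h ∈ 𝒜 d := fun _ h => h.2

lemma homInv_loc (B : Type u) [CommRing B] [Algebra A B] [IsLocalization (homElems 𝒜) B] :
    letI := locGradedRing 𝒜 (homElems 𝒜) (homElems_hom 𝒜) B
    HomInv (locGr 𝒜 (homElems 𝒜) (homElems_hom 𝒜) B) := by
  letI := locGradedRing 𝒜 (homElems 𝒜) (homElems_hom 𝒜) B
  intro g x hx hx0
  obtain ⟨d, a, h, hd, ha, rfl⟩ := exists_mk'_of_mem 𝒜 (homElems 𝒜) (homElems_hom 𝒜) B hx
  have ha0 : a ≠ 0 := by
    rintro rfl
    exact hx0 (IsLocalization.mk'_zero _)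
  let a' : homElems 𝒜 := ⟨a, ha0, g + d, ha⟩
  refine ⟨IsLocalization.mk' B (h : A) a', ?_, ?_⟩
  · have := mk'_mem 𝒜 (homElems 𝒜) (homElems_hom 𝒜) B hd a' ha
    rwa [show d - (g + d) = -g by abel] at this
  · rw [← IsLocalization.mk'_mul, IsLocalization.mk'_eq_iff_eq_mul, one_mul]
    congr 1
    change (h : A) * a = (a' : A) * h
    exact mul_comm _ _

/-- A prime of a graded Noetherian domain without nonzero homogeneous elements has a regular
local ring. -/
theorem isRegularLocalRing_of_core_eq_bot [IsNoetherianRing A] (p : Ideal A) [hp : p.IsPrime]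
    (hcore : ∀ a, ∀ d, a ∈ 𝒜 d → a ∈ p → a = 0) :
    IsRegularLocalRing (Localization.AtPrime p) := by
  let H := homElems 𝒜
  let B := Localization H
  have hd : Disjoint (H : Set A) (p : Set A) := by
    rw [Set.disjoint_left]
    rintro a ⟨ha0, d, hd⟩ hap
    exact ha0 (hcore a d hd hap)
  let P : Ideal B := p.map (algebraMap A B)
  have hP : P.IsPrime := IsLocalization.isPrime_of_isPrime_disjoint H B p hp hd
  have hPc : P.comap (algebraMap A B) = p :=
    IsLocalization.under_map_of_isPrime_disjoint H B hp hd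
  have : Nontrivial B := nontrivial_of_ne 0 1 (fun h => hP.ne_top
    ((Ideal.eq_top_iff_one _).2 (h ▸ P.zero_mem)))
  have : IsNoetherianRing B := IsLocalization.isNoetherianRing H B inferInstance
  letI := locGradedRing 𝒜 H (homElems_hom 𝒜) B
  have h1 := isRegularLocalRing (locGr 𝒜 H (homElems_hom 𝒜) B) (homInv_loc 𝒜 B) P
  have h2 := IsLocalization.isLocalization_isLocalization_atPrime_isLocalization H
    (Localization.AtPrime P) P
  have h3 : IsLocalization.AtPrime (Localization.AtPrime P) p := by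
    convert h2
    exact hPc.symm
  exact IsRegularLocalRing.of_ringEquiv
    (IsLocalization.algEquiv p.primeCompl (Localization.AtPrime P)
      (Localization.AtPrime p)).toRingEquiv

end Core

section Main

variable {R : Type u} [CommRing R] [IsNoetherianRing R] (𝒜 : ι → AddSubgroup R) [GradedRing 𝒜]
  (p : Ideal R) [hp : p.IsPrime] (Q : HomogeneousIdeal 𝒜) [hq : Q.toIdeal.IsPrime]
  (hQp : Q.toIdeal ≤ p)

include hQp in
lemma comap_map_eq :
    (p.map (Ideal.Quotient.mk Q.toIdeal)).comap (Ideal.Quotient.mk Q.toIdeal) = p := by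
  rw [Ideal.comap_map_of_surjective _ Ideal.Quotient.mk_surjective]
  have : (⊥ : Ideal (R ⧸ Q.toIdeal)).comap (Ideal.Quotient.mk Q.toIdeal) = Q.toIdeal := by
    rw [← RingHom.ker_eq_comap_bot, Ideal.mk_ker]
  rw [this]
  exact sup_eq_left.2 hQp

include hp hQp in
lemma map_isPrime : (p.map (Ideal.Quotient.mk Q.toIdeal)).IsPrime :=
  Ideal.map_isPrime_of_surjective Ideal.Quotient.mk_surjective
    (by rw [Ideal.mk_ker]; exact hQp)

theorem isRegularLocalRing_quot (hcore : ∀ a, ∀ d, a ∈ 𝒜 d → a ∈ p → a ∈ Q.toIdeal) :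
    haveI := map_isPrime 𝒜 p Q hQp
    IsRegularLocalRing (Localization.AtPrime (p.map (Ideal.Quotient.mk Q.toIdeal))) := by
  haveI := map_isPrime 𝒜 p Q hQp
  letI := quotGradedRing 𝒜 Q
  refine isRegularLocalRing_of_core_eq_bot (Gr.quotGr 𝒜 Q.toIdeal)
    (p.map (Ideal.Quotient.mk Q.toIdeal)) ?_
  rintro _ d ⟨a, ha, rfl⟩ hap
  change Ideal.Quotient.mk Q.toIdeal a = 0
  have h1 : a ∈ p := by
    rw [← comap_map_eq 𝒜 p Q hQp]
    exact hap
  rw [Ideal.Quotient.eq_zero_iff_mem]
  exact hcore a d ha h1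

/-- `R_p/QR_p = (R/Q)_p`. -/
theorem nonempty_equiv :
    haveI := map_isPrime 𝒜 p Q hQp
    Nonempty ((Localization.AtPrime p ⧸
      Q.toIdeal.map (algebraMap R (Localization.AtPrime p))) ≃+*
      Localization.AtPrime (p.map (Ideal.Quotient.mk Q.toIdeal))) := by
  haveI := map_isPrime 𝒜 p Q hQp
  let e := Groth.Agent.Ega4A.QuotLoc.quotLocEquiv (Ideal.Quotient.mk Q.toIdeal)
    Ideal.Quotient.mk_surjective (p.map (Ideal.Quotient.mk Q.toIdeal)) p
    (comap_map_eq 𝒜 p Q hQp).symm Q.toIdeal (by rw [Ideal.mk_ker])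
  have h0 : (Q.toIdeal.map (Ideal.Quotient.mk Q.toIdeal)).map
      (algebraMap (R ⧸ Q.toIdeal)
        (Localization.AtPrime (p.map (Ideal.Quotient.mk Q.toIdeal)))) = ⊥ := by
    rw [Ideal.map_quotient_self, Ideal.map_bot]
  exact ⟨e.trans ((Ideal.quotEquivOfEq h0).trans (RingEquiv.quotientBot _))⟩

include hQp in
theorem isRegularLocalRing_core (hcore : ∀ a, ∀ d, a ∈ 𝒜 d → a ∈ p → a ∈ Q.toIdeal) :
    IsRegularLocalRing
      (Localization.AtPrime p ⧸ Q.toIdeal.map (algebraMap R (Localization.AtPrime p))) := by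
  haveI := map_isPrime 𝒜 p Q hQp
  obtain ⟨e⟩ := nonempty_equiv 𝒜 p Q hQp
  have := isRegularLocalRing_quot 𝒜 p Q hQp hcore
  exact IsRegularLocalRing.of_ringEquiv e.symm

include hQp in
theorem ringKrullDim_core (d : ℕ) (hd : (p.map (Ideal.Quotient.mk Q.toIdeal)).height = d) :
    ringKrullDim
      (Localization.AtPrime p ⧸ Q.toIdeal.map (algebraMap R (Localization.AtPrime p))) = d := by
  haveI := map_isPrime 𝒜 p Q hQp
  obtain ⟨e⟩ := nonempty_equiv 𝒜 p Q hQp
  rw [ringKrullDim_eq_of_ringEquiv e, IsLocalization.AtPrime.ringKrullDim_eq_height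
    (p.map (Ideal.Quotient.mk Q.toIdeal)), hd]
  rfl

end Main

end K760.CoreReg
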