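import Groth.Prelude.Def_GrLC
import Mathlib.LinearAlgebra.Quotient.Basic
import Mathlib.Algebra.DirectSum.Decomposition

/-!
# Grading toolkit (I): projections, constructions of decompositions

Everything for graded modules with pieces `ℳ : ι → AddSubgroup M` over a ring graded by `𝒜 : ι → σ`.
-/

set_option autoImplicit false
set_option linter.unusedSectionVars false
set_option linter.style.haveILetI false
set_option linter.unusedVariables false

universe u v

open DirectSum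

namespace K760.Gr

/-! ## Projections -/

section Pr

variable {ι : Type} [DecidableEq ι]
variable {M : Type v} [AddCommGroup M] (ℳ : ι → AddSubgroup M) [Decomposition ℳ]

/-- The projection onto the piece of degree `g`. -/
def pr (g : ι) : M →+ M where
  toFun m := (decompose ℳ m g : M)
  map_zero' := by simp
  map_add' x y := by simp

lemma pr_apply (g : ι) (m : M) : pr ℳ g m = (decompose ℳ m g : M) := rfl

lemma pr_mem (g : ι) (m : M) : pr ℳ g m ∈ ℳ g := (decompose ℳ m g).2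

variable {ℳ}

lemma pr_of_mem {g : ι} {m : M} (hm : m ∈ ℳ g) : pr ℳ g m = m :=
  decompose_of_mem_same ℳ hm

lemma pr_of_mem_ne {g h : ι} {m : M} (hm : m ∈ ℳ g) (hgh : g ≠ h) : pr ℳ h m = 0 :=
  decompose_of_mem_ne ℳ hm hgh

lemma pr_pr_same (g : ι) (m : M) : pr ℳ g (pr ℳ g m) = pr ℳ g m := pr_of_mem (pr_mem ℳ g m)

lemma pr_pr_ne {g h : ι} (hgh : g ≠ h) (m : M) : pr ℳ h (pr ℳ g m) = 0 :=
  pr_of_mem_ne (pr_mem ℳ g m) hgh

variable (ℳ)

/-- The finite set of degrees of the nonzero components. -/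
noncomputable def supp (m : M) : Finset ι := by
  classical exact (decompose ℳ m).support

lemma mem_supp {m : M} {g : ι} : g ∈ supp ℳ m ↔ pr ℳ g m ≠ 0 := by
  classical
  rw [supp, DFinsupp.mem_support_iff, pr_apply, Ne, Ne, ZeroMemClass.coe_eq_zero]

lemma sum_supp_pr (m : M) : ∑ g ∈ supp ℳ m, pr ℳ g m = m := by
  classical
  exact sum_support_decompose ℳ m

lemma sum_pr_of_supp_subset {m : M} {s : Finset ι} (hs : supp ℳ m ⊆ s) :
    ∑ g ∈ s, pr ℳ g m = m := by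
  conv_rhs => rw [← sum_supp_pr ℳ m]
  symm
  apply Finset.sum_subset hs
  intro x _ hx
  by_contra h
  exact hx ((mem_supp ℳ).2 h)

variable {ℳ}

lemma ext_pr {x y : M} (h : ∀ g, pr ℳ g x = pr ℳ g y) : x = y := by
  classical
  have : decompose ℳ x = decompose ℳ y := DFinsupp.ext fun g => Subtype.ext (h g)
  exact (decompose ℳ).injective this

lemma eq_zero_of_pr {x : M} (h : ∀ g, pr ℳ g x = 0) : x = 0 :=
  ext_pr (ℳ := ℳ) fun g => by rw [h g, map_zero]

lemma mem_iff_pr {x : M} {g : ι} : x ∈ ℳ g ↔ ∀ h, h ≠ g → pr ℳ h x = 0 := by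
  constructor
  · intro hx h hh
    exact pr_of_mem_ne hx (Ne.symm hh)
  · intro h
    have : x = pr ℳ g x := by
      apply ext_pr (ℳ := ℳ)
      intro k
      by_cases hk : k = g
      · subst hk; rw [pr_pr_same]
      · rw [h k hk, pr_pr_ne (Ne.symm hk)]
    rw [this]
    exact pr_mem ℳ g x

lemma pr_sum {κ : Type*} (s : Finset κ) (f : κ → M) (g : ι) :
    pr ℳ g (∑ k ∈ s, f k) = ∑ k ∈ s, pr ℳ g (f k) := map_sum _ _ _

/-- A family of homogeneous elements of distinct degrees. -/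
lemma pr_sum_of_mem {s : Finset ι} {f : ι → M} (hf : ∀ i ∈ s, f i ∈ ℳ i) (g : ι) :
    pr ℳ g (∑ k ∈ s, f k) = if g ∈ s then f g else 0 := by
  classical
  rw [pr_sum]
  split_ifs with h
  · rw [Finset.sum_eq_single g]
    · exact pr_of_mem (hf g h)
    · intro b hb hbg; exact pr_of_mem_ne (hf b hb) hbg
    · intro h'; exact absurd h h'
  · apply Finset.sum_eq_zero
    intro b hb
    exact pr_of_mem_ne (hf b hb) (fun hbg => h (hbg ▸ hb))

@[elab_as_elim]
lemma homogeneous_induction {p : M → Prop} (h0 : p 0)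
    (h1 : ∀ g, ∀ m ∈ ℳ g, p m) (h2 : ∀ x y, p x → p y → p (x + y)) (m : M) : p m := by
  rw [← sum_supp_pr ℳ m]
  generalize supp ℳ m = s
  classical
  induction s using Finset.induction with
  | empty => simpa using h0
  | insert a s ha ih =>
    rw [Finset.sum_insert ha]
    exact h2 _ _ (h1 a _ (pr_mem ℳ a m)) ih

lemma pr_map_add {N : Type*} [AddCommGroup N] {𝒩 : ι → AddSubgroup N} [Decomposition 𝒩]
    {f : M →+ N} (hf : ∀ g, ∀ m ∈ ℳ g, f m ∈ 𝒩 g) (g : ι) (m : M) :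
    pr 𝒩 g (f m) = f (pr ℳ g m) := by
  refine homogeneous_induction (ℳ := ℳ) (by simp) ?_ ?_ m
  · intro h x hx
    by_cases hh : h = g
    · subst hh; rw [pr_of_mem hx, pr_of_mem (hf _ _ hx)]
    · rw [pr_of_mem_ne hx hh, pr_of_mem_ne (hf _ _ hx) hh, map_zero]
  · intro x y hx hy; rw [map_add, map_add, map_add, map_add, hx, hy]

end Pr

/-! ## Construction of decompositions from projections -/

section OfProj

variable {ι : Type} [DecidableEq ι]
variable {M : Type v} [AddCommGroup M] (ℳ : ι → AddSubgroup M)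

/-- A decomposition from a family of projections. -/
@[reducible] noncomputable def ofProj (π : ι → M → M)
    (h0 : ∀ g x y, π g (x + y) = π g x + π g y)
    (h1 : ∀ g m, π g m ∈ ℳ g)
    (h2 : ∀ g m, m ∈ ℳ g → π g m = m) (h3 : ∀ g h m, m ∈ ℳ g → g ≠ h → π h m = 0)
    (h4 : ∀ m, ∃ s : Finset ι, m = ∑ g ∈ s, π g m) : Decomposition ℳ := by
  refine IsInternal.chooseDecomposition ℳ ⟨?_, ?_⟩
  · rw [injective_iff_map_eq_zero]
    intro x hx
    classical
    apply DFinsupp.ext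
    intro g
    apply Subtype.ext
    let P : M →+ M := AddMonoidHom.mk' (π g) (h0 g)
    have key : ∀ y : ⨁ i, ℳ i, P (DirectSum.coeAddMonoidHom ℳ y) = (y g : M) := by
      intro y
      induction y using DirectSum.induction_on with
      | zero => simp
      | of i z =>
        rw [DirectSum.coeAddMonoidHom_of]
        change π g z = _
        by_cases hi : i = g
        · subst hi
          rw [h2 _ _ z.2, DirectSum.of_eq_same]
        · rw [h3 _ _ _ z.2 hi, DirectSum.of_eq_of_ne _ _ _ (Ne.symm hi)]; rfl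
      | add a b ha hb => rw [map_add, map_add, ha, hb]; rfl
    have := key x
    rw [hx, map_zero] at this
    exact this.symm
  · intro m
    obtain ⟨s, hs⟩ := h4 m
    refine ⟨∑ g ∈ s, DirectSum.of (fun i => ℳ i) g ⟨π g m, h1 g m⟩, ?_⟩
    rw [map_sum]
    conv_rhs => rw [hs]
    apply Finset.sum_congr rfl
    intro g _
    rw [DirectSum.coeAddMonoidHom_of]

lemma pr_ofProj (π : ι → M → M)
    (h0 : ∀ g x y, π g (x + y) = π g x + π g y)
    (h1 : ∀ g m, π g m ∈ ℳ g)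
    (h2 : ∀ g m, m ∈ ℳ g → π g m = m) (h3 : ∀ g h m, m ∈ ℳ g → g ≠ h → π h m = 0)
    (h4 : ∀ m, ∃ s : Finset ι, m = ∑ g ∈ s, π g m) (g : ι) (m : M) :
    letI := ofProj ℳ π h0 h1 h2 h3 h4
    pr ℳ g m = π g m := by
  letI := ofProj ℳ π h0 h1 h2 h3 h4
  let P : M →+ M := AddMonoidHom.mk' (π g) (h0 g)
  change pr ℳ g m = P m
  refine homogeneous_induction (ℳ := ℳ) (by simp) ?_ ?_ m
  · intro h x hx
    by_cases hh : h = g
    · subst hh; rw [pr_of_mem hx]; exact (h2 _ _ hx).symm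
    · rw [pr_of_mem_ne hx hh]; exact (h3 _ _ _ hx hh).symm
  · intro x y hx hy; rw [map_add, map_add, hx, hy]

end OfProj

/-! ## Graded modules -/

section Graded

variable {ι : Type} [AddCommGroup ι] [DecidableEq ι]
variable {R : Type u} [CommRing R] {σ : Type u} [SetLike σ R] [AddSubgroupClass σ R]
  (𝒜 : ι → σ)
variable {M : Type v} [AddCommGroup M] [Module R M] (ℳ : ι → AddSubgroup M)

lemma smul_mem [SetLike.GradedSMul 𝒜 ℳ] {d g : ι} {r : R} {m : M} (hr : r ∈ 𝒜 d) (hm : m ∈ ℳ g) :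
    r • m ∈ ℳ (d + g) := SetLike.GradedSMul.smul_mem hr hm

lemma smul_mem' [SetLike.GradedSMul 𝒜 ℳ] {d g : ι} {r : R} {m : M} (hr : r ∈ 𝒜 d)
    (hm : m ∈ ℳ g) : r • m ∈ ℳ (g + d) := by
  rw [add_comm]; exact SetLike.GradedSMul.smul_mem hr hm

variable [Decomposition ℳ]

lemma pr_smul [SetLike.GradedSMul 𝒜 ℳ] {d : ι} {r : R} (hr : r ∈ 𝒜 d) (g : ι) (m : M) :
    pr ℳ (d + g) (r • m) = r • pr ℳ g m := by
  refine homogeneous_induction (ℳ := ℳ) (by simp) ?_ ?_ m
  · intro h x hx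
    by_cases hh : h = g
    · subst hh; rw [pr_of_mem hx, pr_of_mem (smul_mem 𝒜 ℳ hr hx)]
    · rw [pr_of_mem_ne hx hh, pr_of_mem_ne (smul_mem 𝒜 ℳ hr hx) (fun h' => hh (by simpa using h')),
        smul_zero]
  · intro x y hx hy; rw [smul_add, map_add, map_add, smul_add, hx, hy]

lemma pr_smul' [SetLike.GradedSMul 𝒜 ℳ] {d : ι} {r : R} (hr : r ∈ 𝒜 d) (g : ι) (m : M) :
    pr ℳ g (r • m) = r • pr ℳ (g - d) m := by
  have := pr_smul 𝒜 ℳ hr (g - d) m
  rwa [add_sub_cancel] at this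

end Graded

section Ring

variable {ι : Type} [AddCommGroup ι] [DecidableEq ι]
variable {R : Type u} [CommRing R] {σ : Type u} [SetLike σ R] [AddSubgroupClass σ R]
  (𝒜 : ι → σ) [GradedRing 𝒜]

/-- The projection of the ring. -/
def rpr (g : ι) : R →+ R where
  toFun m := (decompose 𝒜 m g : R)
  map_zero' := by simp
  map_add' x y := by simp

lemma rpr_apply (g : ι) (m : R) : rpr 𝒜 g m = (decompose 𝒜 m g : R) := rfl

lemma rpr_mem (g : ι) (m : R) : rpr 𝒜 g m ∈ 𝒜 g := (decompose 𝒜 m g).2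

/-- The degrees of the nonzero components of a ring element. -/
noncomputable def rsupp (m : R) : Finset ι := by
  classical exact (decompose 𝒜 m).support

lemma mem_rsupp {m : R} {g : ι} : g ∈ rsupp 𝒜 m ↔ rpr 𝒜 g m ≠ 0 := by
  classical
  rw [rsupp, DFinsupp.mem_support_iff, rpr_apply, Ne, Ne, ZeroMemClass.coe_eq_zero]

lemma sum_rsupp_rpr (m : R) : ∑ g ∈ rsupp 𝒜 m, rpr 𝒜 g m = m := by
  classical
  exact sum_support_decompose 𝒜 m

variable {𝒜}

lemma rpr_of_mem {g : ι} {m : R} (hm : m ∈ 𝒜 g) : rpr 𝒜 g m = m :=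
  decompose_of_mem_same 𝒜 hm

lemma rpr_of_mem_ne {g h : ι} {m : R} (hm : m ∈ 𝒜 g) (hgh : g ≠ h) : rpr 𝒜 h m = 0 :=
  decompose_of_mem_ne 𝒜 hm hgh

lemma eq_zero_of_rpr {x : R} (h : ∀ g, rpr 𝒜 g x = 0) : x = 0 := by
  rw [← sum_rsupp_rpr 𝒜 x]; exact Finset.sum_eq_zero fun g _ => h g

@[elab_as_elim]
lemma ring_induction {p : R → Prop} (h0 : p 0)
    (h1 : ∀ g, ∀ m ∈ 𝒜 g, p m) (h2 : ∀ x y, p x → p y → p (x + y)) (m : R) : p m := by
  rw [← sum_rsupp_rpr 𝒜 m]
  generalize rsupp 𝒜 m = s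
  classical
  induction s using Finset.induction with
  | empty => simpa using h0
  | insert a s ha ih =>
    rw [Finset.sum_insert ha]
    exact h2 _ _ (h1 a _ (rpr_mem 𝒜 a m)) ih

variable {M : Type v} [AddCommGroup M] [Module R M] (ℳ : ι → AddSubgroup M) [Decomposition ℳ]
  [SetLike.GradedSMul 𝒜 ℳ]

/-- Component of a product with a homogeneous module element. -/
lemma pr_smul_of_mem {g : ι} {m : M} (hm : m ∈ ℳ g) (h : ι) (r : R) :
    pr ℳ h (r • m) = rpr 𝒜 (h - g) r • m := by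
  refine ring_induction (𝒜 := 𝒜) (by simp) ?_ ?_ r
  · intro d x hx
    by_cases hh : d = h - g
    · subst hh
      rw [rpr_of_mem hx, pr_of_mem]
      have := smul_mem 𝒜 ℳ hx hm
      rwa [sub_add_cancel] at this
    · rw [rpr_of_mem_ne hx hh, zero_smul]
      exact pr_of_mem_ne (smul_mem 𝒜 ℳ hx hm) (fun h' => hh (by rw [← h']; simp))
  · intro x y hx hy; rw [add_smul, map_add, map_add, add_smul, hx, hy]

end Ring

/-! ## Homogeneous submodules: pieces, quotient -/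

section SubQuot

variable {ι : Type} [AddCommGroup ι] [DecidableEq ι]
variable {R : Type u} [CommRing R] {σ : Type u} [SetLike σ R] [AddSubgroupClass σ R]
  (𝒜 : ι → σ)
variable {M : Type v} [AddCommGroup M] [Module R M] (ℳ : ι → AddSubgroup M) [Decomposition ℳ]

lemma isHomogeneous_iff (P : Submodule R M) :
    P.IsHomogeneous ℳ ↔ ∀ g, ∀ m ∈ P, pr ℳ g m ∈ P :=
  ⟨fun h g m hm => h g hm, fun h g m hm => h g m hm⟩

/-- The pieces of a submodule. -/
def subGr (P : Submodule R M) : ι → AddSubgroup P := fun g => (ℳ g).comap P.subtype.toAddMonoidHom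

omit [AddCommGroup ι] [DecidableEq ι] [Decomposition ℳ] in
lemma mem_subGr {P : Submodule R M} {g : ι} {x : P} : x ∈ subGr ℳ P g ↔ (x : M) ∈ ℳ g := Iff.rfl

/-- The decomposition of a homogeneous submodule. -/
@[reducible] noncomputable def subDec {P : Submodule R M} (hP : P.IsHomogeneous ℳ) :
    Decomposition (subGr ℳ P) :=
  ofProj (subGr ℳ P) (fun g x => ⟨pr ℳ g x, (isHomogeneous_iff ℳ P).1 hP g x x.2⟩)
    (fun g x y => Subtype.ext (by simp)) (fun g m => pr_mem ℳ g (m : M))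
    (fun g m hm => Subtype.ext (pr_of_mem (ℳ := ℳ) hm))
    (fun g h m hm hgh => Subtype.ext (pr_of_mem_ne (ℳ := ℳ) hm hgh))
    (fun m => ⟨supp ℳ (m : M), Subtype.ext (by
      rw [AddSubmonoidClass.coe_finsetSum]; exact (sum_supp_pr ℳ (m : M)).symm)⟩)

lemma coe_pr_sub {P : Submodule R M} [Decomposition (subGr ℳ P)] (g : ι) (x : P) :
    (pr (subGr ℳ P) g x : M) = pr ℳ g (x : M) :=
  (pr_map_add (ℳ := subGr ℳ P) (𝒩 := ℳ) (f := P.subtype.toAddMonoidHom) (fun _ _ h => h) g x).symm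

omit [DecidableEq ι] [Decomposition ℳ] in
lemma subGSMul (P : Submodule R M) [SetLike.GradedSMul 𝒜 ℳ] :
    SetLike.GradedSMul 𝒜 (subGr ℳ P) :=
  ⟨fun {_ _ _ _} hr hm => SetLike.GradedSMul.smul_mem (A := 𝒜) (B := ℳ) hr hm⟩

/-- The pieces of a quotient module. -/
def quotGr (P : Submodule R M) : ι → AddSubgroup (M ⧸ P) :=
  fun g => (ℳ g).map P.mkQ.toAddMonoidHom

omit [AddCommGroup ι] [DecidableEq ι] [Decomposition ℳ] in
lemma mem_quotGr {P : Submodule R M} {g : ι} {x : M ⧸ P} :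
    x ∈ quotGr ℳ P g ↔ ∃ m ∈ ℳ g, P.mkQ m = x := Iff.rfl

/-- The decomposition of a quotient by a homogeneous submodule. -/
@[reducible] noncomputable def quotDec {P : Submodule R M} (hP : P.IsHomogeneous ℳ) :
    Decomposition (quotGr ℳ P) :=
  ofProj (quotGr ℳ P)
    (fun g => QuotientAddGroup.map P.toAddSubgroup P.toAddSubgroup (pr ℳ g)
      (fun m hm => (isHomogeneous_iff ℳ P).1 hP g m hm))
    (fun g x y => map_add _ _ _)
    (by
      intro g x
      obtain ⟨m, rfl⟩ := P.mkQ_surjective x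
      exact ⟨pr ℳ g m, pr_mem ℳ g m, rfl⟩)
    (by
      rintro g _ ⟨m, hm, rfl⟩
      exact congrArg P.mkQ (pr_of_mem (ℳ := ℳ) hm))
    (by
      rintro g h _ ⟨m, hm, rfl⟩ hgh
      exact (congrArg P.mkQ (pr_of_mem_ne (ℳ := ℳ) hm hgh)).trans (map_zero _))
    (by
      intro x
      obtain ⟨m, rfl⟩ := P.mkQ_surjective x
      refine ⟨supp ℳ m, ?_⟩
      conv_lhs => rw [← sum_supp_pr ℳ m]
      rw [map_sum]
      rfl)

lemma pr_quot_mk {P : Submodule R M} [Decomposition (quotGr ℳ P)] (g : ι) (m : M) :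
    pr (quotGr ℳ P) g (P.mkQ m) = P.mkQ (pr ℳ g m) :=
  pr_map_add (ℳ := ℳ) (𝒩 := quotGr ℳ P) (f := P.mkQ.toAddMonoidHom)
    (fun _ m h => ⟨m, h, rfl⟩) g m

omit [DecidableEq ι] [Decomposition ℳ] in
lemma quotGSMul (P : Submodule R M) [SetLike.GradedSMul 𝒜 ℳ] :
    SetLike.GradedSMul 𝒜 (quotGr ℳ P) := by
  refine ⟨fun {i j a b} ha hb => ?_⟩
  obtain ⟨m, hm, rfl⟩ := hb
  exact ⟨a • m, SetLike.GradedSMul.smul_mem (A := 𝒜) (B := ℳ) ha hm, by
    change P.mkQ (a • m) = a • P.mkQ m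
    rw [map_smul]⟩

end SubQuot

/-! ## Homogeneous maps -/

section Maps

variable {ι : Type} [AddCommGroup ι] [DecidableEq ι]
variable {R : Type u} [CommRing R]
variable {M : Type u} [AddCommGroup M] [Module R M] (ℳ : ι → AddSubgroup M) [Decomposition ℳ]
variable {N : Type u} [AddCommGroup N] [Module R N] (𝒩 : ι → AddSubgroup N) [Decomposition 𝒩]

open GrLC

variable {ℳ 𝒩}

lemma isGrHomDeg_zero_iff (f : M →ₗ[R] N) : IsGrHomDeg ℳ 𝒩 f 0 ↔ IsGrHom ℳ 𝒩 f := by
  simp only [IsGrHomDeg, IsGrHom, add_zero]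

lemma pr_map_deg {f : M →ₗ[R] N} {d : ι} (hf : IsGrHomDeg ℳ 𝒩 f d) (g : ι) (m : M) :
    pr 𝒩 (g + d) (f m) = f (pr ℳ g m) := by
  refine homogeneous_induction (ℳ := ℳ) (by simp) ?_ ?_ m
  · intro h x hx
    by_cases hh : h = g
    · subst hh; rw [pr_of_mem hx, pr_of_mem (hf _ _ hx)]
    · rw [pr_of_mem_ne hx hh, pr_of_mem_ne (hf _ _ hx) (fun h' => hh (by simpa using h')), map_zero]
  · intro x y hx hy; rw [map_add, map_add, map_add, map_add, hx, hy]

lemma pr_map_deg' {f : M →ₗ[R] N} {d : ι} (hf : IsGrHomDeg ℳ 𝒩 f d) (g : ι) (m : M) :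
    pr 𝒩 g (f m) = f (pr ℳ (g - d) m) := by
  rw [← pr_map_deg hf, sub_add_cancel]

lemma pr_map {f : M →ₗ[R] N} (hf : IsGrHom ℳ 𝒩 f) (g : ι) (m : M) :
    pr 𝒩 g (f m) = f (pr ℳ g m) := by
  have := pr_map_deg ((isGrHomDeg_zero_iff f).2 hf) g m
  rwa [add_zero] at this

lemma ker_isHomogeneous {f : M →ₗ[R] N} {d : ι} (hf : IsGrHomDeg ℳ 𝒩 f d) :
    (LinearMap.ker f).IsHomogeneous ℳ := by
  rw [isHomogeneous_iff]
  intro g m hm
  rw [LinearMap.mem_ker] at hm ⊢
  rw [← pr_map_deg hf, hm, map_zero]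

lemma ker_isHomogeneous₀ {f : M →ₗ[R] N} (hf : IsGrHom ℳ 𝒩 f) :
    (LinearMap.ker f).IsHomogeneous ℳ := ker_isHomogeneous ((isGrHomDeg_zero_iff f).2 hf)

lemma map_isHomogeneous {f : M →ₗ[R] N} {d : ι} (hf : IsGrHomDeg ℳ 𝒩 f d) {P : Submodule R M}
    (hP : P.IsHomogeneous ℳ) : (P.map f).IsHomogeneous 𝒩 := by
  rw [isHomogeneous_iff]
  rintro g _ ⟨m, hm, rfl⟩
  rw [pr_map_deg' hf]
  exact ⟨_, (isHomogeneous_iff ℳ P).1 hP _ m hm, rfl⟩

lemma comap_isHomogeneous {f : M →ₗ[R] N} {d : ι} (hf : IsGrHomDeg ℳ 𝒩 f d) {P : Submodule R N}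
    (hP : P.IsHomogeneous 𝒩) : (P.comap f).IsHomogeneous ℳ := by
  rw [isHomogeneous_iff]
  intro g m hm
  rw [Submodule.mem_comap] at hm ⊢
  rw [← pr_map_deg hf]
  exact (isHomogeneous_iff 𝒩 P).1 hP _ _ hm

lemma top_isHomogeneous : (⊤ : Submodule R M).IsHomogeneous ℳ := fun _ _ _ => trivial

lemma bot_isHomogeneous : (⊥ : Submodule R M).IsHomogeneous ℳ := by
  rw [isHomogeneous_iff]
  intro g m hm
  rw [Submodule.mem_bot] at hm ⊢
  rw [hm, map_zero]

lemma range_isHomogeneous {f : M →ₗ[R] N} {d : ι} (hf : IsGrHomDeg ℳ 𝒩 f d) :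
    (LinearMap.range f).IsHomogeneous 𝒩 := by
  rw [LinearMap.range_eq_map]
  exact map_isHomogeneous hf top_isHomogeneous

lemma range_isHomogeneous₀ {f : M →ₗ[R] N} (hf : IsGrHom ℳ 𝒩 f) :
    (LinearMap.range f).IsHomogeneous 𝒩 := range_isHomogeneous ((isGrHomDeg_zero_iff f).2 hf)

lemma inf_isHomogeneous {P Q : Submodule R M} (hP : P.IsHomogeneous ℳ) (hQ : Q.IsHomogeneous ℳ) :
    (P ⊓ Q).IsHomogeneous ℳ := by
  rw [isHomogeneous_iff] at *
  exact fun g m hm => ⟨hP g m hm.1, hQ g m hm.2⟩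

lemma sup_isHomogeneous {P Q : Submodule R M} (hP : P.IsHomogeneous ℳ) (hQ : Q.IsHomogeneous ℳ) :
    (P ⊔ Q).IsHomogeneous ℳ := by
  rw [isHomogeneous_iff] at *
  intro g m hm
  obtain ⟨x, hx, y, hy, rfl⟩ := Submodule.mem_sup.1 hm
  rw [map_add]
  exact Submodule.add_mem_sup (hP g x hx) (hQ g y hy)

lemma iSup_isHomogeneous {κ : Sort*} {P : κ → Submodule R M} (hP : ∀ k, (P k).IsHomogeneous ℳ) :
    (⨆ k, P k).IsHomogeneous ℳ := by
  rw [isHomogeneous_iff]
  intro g m hm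
  induction hm using Submodule.iSup_induction' with
  | mem k x hx => exact Submodule.mem_iSup_of_mem k ((isHomogeneous_iff ℳ _).1 (hP k) g x hx)
  | zero => rw [map_zero]; exact zero_mem _
  | add x y _ _ hx hy => rw [map_add]; exact add_mem hx hy

/-- An injective homogeneous map reflects the pieces. -/
lemma mem_of_map_mem {f : M →ₗ[R] N} {d : ι} (hf : IsGrHomDeg ℳ 𝒩 f d)
    (hinj : Function.Injective f) {g : ι} {m : M} (hm : f m ∈ 𝒩 (g + d)) : m ∈ ℳ g := by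
  rw [mem_iff_pr] at hm ⊢
  intro h hh
  apply hinj
  rw [map_zero, ← pr_map_deg hf]
  exact hm _ (fun h' => hh (by simpa using h'))

/-- The inverse of a bijective homogeneous map of degree `d` is homogeneous of degree `-d`. -/
lemma symm_isGrHomDeg {e : M ≃ₗ[R] N} {d : ι} (he : IsGrHomDeg ℳ 𝒩 e.toLinearMap d) :
    IsGrHomDeg 𝒩 ℳ e.symm.toLinearMap (-d) := by
  intro g n hn
  apply mem_of_map_mem he e.injective
  simpa using hn

lemma symm_isGrHom {e : M ≃ₗ[R] N} (he : IsGrHom ℳ 𝒩 e.toLinearMap) :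
    IsGrHom 𝒩 ℳ e.symm.toLinearMap := by
  rw [← isGrHomDeg_zero_iff] at he ⊢
  simpa using symm_isGrHomDeg he

end Maps

end K760.Gr
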