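import Groth.Agent.GrLC.K760.Gr
import Mathlib.RingTheory.Finiteness.Basic
import Mathlib.LinearAlgebra.Pi
import Mathlib.RingTheory.Noetherian.Basic

/-!
# Grading toolkit (II): shifts, products, finite free modules, Hom out of a finite module,
extension properties of *injective modules
-/

set_option autoImplicit false
set_option linter.unusedSectionVars false
set_option linter.style.haveILetI false
set_option linter.unusedVariables false

universe u v

open DirectSum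

namespace K760.Gr

open GrLC

/-! ## Shifts -/

section Shift

variable {ι : Type} [AddCommGroup ι] [DecidableEq ι]
variable {R : Type u} [CommRing R] {σ : Type u} [SetLike σ R] [AddSubgroupClass σ R]
  (𝒜 : ι → σ)
variable {M : Type v} [AddCommGroup M] [Module R M] (ℳ : ι → AddSubgroup M)

/-- The shifted grading: piece of degree `g` is the old piece of degree `g + d`. -/
def shiftGr (d : ι) : ι → AddSubgroup M := fun g => ℳ (g + d)

/-- The decomposition of the shifted grading. -/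
@[reducible] noncomputable def shiftDec [Decomposition ℳ] (d : ι) :
    Decomposition (shiftGr ℳ d) :=
  ofProj (shiftGr ℳ d) (fun g m => pr ℳ (g + d) m) (fun g x y => map_add _ _ _)
    (fun g m => pr_mem ℳ _ m) (fun g m hm => pr_of_mem hm)
    (fun g h m hm hgh => pr_of_mem_ne hm (fun h' => hgh (by simpa using h')))
    (fun m => ⟨(supp ℳ m).image (fun g => g - d), by
      rw [Finset.sum_image (by intro a _ b _ h; simpa using h)]
      simp only [sub_add_cancel]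
      exact (sum_supp_pr ℳ m).symm⟩)

lemma shiftGSMul [SetLike.GradedSMul 𝒜 ℳ] (d : ι) : SetLike.GradedSMul 𝒜 (shiftGr ℳ d) := by
  refine ⟨fun {i j a b} ha hb => ?_⟩
  have := SetLike.GradedSMul.smul_mem (A := 𝒜) (B := ℳ) ha hb
  simp only [vadd_eq_add] at this ⊢
  rw [← add_assoc] at this
  exact this

end Shift

/-! ## Extension properties -/

section Ext

variable {ι : Type} [AddCommGroup ι] [DecidableEq ι]
variable {R : Type u} [CommRing R] {σ : Type u} [SetLike σ R] [AddSubgroupClass σ R]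
  (𝒜 : ι → σ) [GradedRing 𝒜]

/-- A bundled graded module from unbundled instances given explicitly. -/
@[reducible] def mkGMod (M : Type u) [AddCommGroup M] [Module R M] (ℳ : ι → AddSubgroup M)
    (d : Decomposition ℳ) (h : SetLike.GradedSMul 𝒜 ℳ) : GMod.{u} 𝒜 :=
  { carrier := M, gr := ℳ, dec := d, gsmul := h }

variable {A : Type u} [AddCommGroup A] [Module R A] (𝒢 : ι → AddSubgroup A) [Decomposition 𝒢]
  [SetLike.GradedSMul 𝒜 𝒢]
variable {B : Type u} [AddCommGroup B] [Module R B] (ℬ : ι → AddSubgroup B) [Decomposition ℬ]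
  [SetLike.GradedSMul 𝒜 ℬ]
variable {E : Type u} [AddCommGroup E] [Module R E] {ℰ : ι → AddSubgroup E} [Decomposition ℰ]
  [SetLike.GradedSMul 𝒜 ℰ]

variable {𝒜}

/-- The extension property for injective homogeneous maps, unbundled. -/
lemma exists_extend_inj (hE : IsStarInj 𝒜 ℰ) {f : A →ₗ[R] B} (hf : IsGrHom 𝒢 ℬ f)
    (hinj : Function.Injective f) {g : A →ₗ[R] E} (hg : IsGrHom 𝒢 ℰ g) :
    ∃ h : B →ₗ[R] E, IsGrHom ℬ ℰ h ∧ h ∘ₗ f = g :=
  hE (mkGMod 𝒜 A 𝒢 inferInstance inferInstance) (mkGMod 𝒜 B ℬ inferInstance inferInstance)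
    f hf hinj g hg

/-- The extension property along a homogeneous map `f` (not necessarily injective), for `g`
killing the kernel of `f`. -/
lemma exists_extend (hE : IsStarInj 𝒜 ℰ) {f : A →ₗ[R] B} (hf : IsGrHom 𝒢 ℬ f)
    {g : A →ₗ[R] E} (hg : IsGrHom 𝒢 ℰ g) (hker : LinearMap.ker f ≤ LinearMap.ker g) :
    ∃ h : B →ₗ[R] E, IsGrHom ℬ ℰ h ∧ h ∘ₗ f = g := by
  have hK := ker_isHomogeneous₀ hf
  letI := quotDec 𝒢 hK
  haveI := quotGSMul 𝒜 𝒢 (LinearMap.ker f)
  obtain ⟨h, hh, hc⟩ := exists_extend_inj (𝒜 := 𝒜) (quotGr 𝒢 (LinearMap.ker f)) ℬ hE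
    (f := (LinearMap.ker f).liftQ f le_rfl)
    (by rintro g _ ⟨m, hm, rfl⟩; exact hf g m hm)
    (by
      rw [← LinearMap.ker_eq_bot]
      exact Submodule.ker_liftQ_eq_bot _ _ _ le_rfl)
    (g := (LinearMap.ker f).liftQ g hker)
    (by rintro g' _ ⟨m, hm, rfl⟩; exact hg g' m hm)
  refine ⟨h, hh, ?_⟩
  ext a
  exact LinearMap.congr_fun hc ((LinearMap.ker f).mkQ a)

/-- Extension property for homogeneous maps of arbitrary degrees. -/
lemma exists_extend_deg (hE : IsStarInj 𝒜 ℰ) {c d : ι} {f : A →ₗ[R] B} (hf : IsGrHomDeg 𝒢 ℬ f c)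
    {g : A →ₗ[R] E} (hg : IsGrHomDeg 𝒢 ℰ g d) (hker : LinearMap.ker f ≤ LinearMap.ker g) :
    ∃ h : B →ₗ[R] E, IsGrHomDeg ℬ ℰ h (d - c) ∧ h ∘ₗ f = g := by
  letI := shiftDec 𝒢 (-d)
  haveI := shiftGSMul 𝒜 𝒢 (-d)
  letI := shiftDec ℬ (c - d)
  haveI := shiftGSMul 𝒜 ℬ (c - d)
  obtain ⟨h, hh, hc⟩ := exists_extend (𝒜 := 𝒜) (shiftGr 𝒢 (-d)) (shiftGr ℬ (c - d)) hE
    (f := f) (by
      intro k m hm
      have := hf (k + -d) m hm
      change f m ∈ ℬ (k + (c - d))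
      rwa [show k + (c - d) = k + -d + c by abel]) (g := g) (by
      intro k m hm
      have := hg (k + -d) m hm
      rwa [show k + -d + d = k by abel] at this) hker
  refine ⟨h, ?_, hc⟩
  intro k m hm
  refine hh (k + (d - c)) m ?_
  change m ∈ ℬ (k + (d - c) + (c - d))
  rwa [show k + (d - c) + (c - d) = k by abel]

end Ext

/-! ## Hom out of a finite graded module -/

section Hom

variable {ι : Type} [AddCommGroup ι] [DecidableEq ι]
variable {R : Type u} [CommRing R] {σ : Type u} [SetLike σ R] [AddSubgroupClass σ R]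
  (𝒜 : ι → σ) [GradedRing 𝒜]
variable {M : Type v} [AddCommGroup M] [Module R M] (ℳ : ι → AddSubgroup M) [Decomposition ℳ]
  [SetLike.GradedSMul 𝒜 ℳ]
variable {N : Type v} [AddCommGroup N] [Module R N] (𝒩 : ι → AddSubgroup N) [Decomposition 𝒩]
  [SetLike.GradedSMul 𝒜 𝒩]

/-- The additive component of degree `d` of an additive map. -/
def homCompAdd (f : M →+ N) (d : ι) : M →+ N :=
  (DirectSum.toAddMonoid
    (fun g => ((pr 𝒩 (g + d)).comp f).comp (ℳ g).subtype)).comp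
    (decomposeAddEquiv ℳ).toAddMonoidHom

lemma homCompAdd_of_mem (f : M →+ N) (d : ι) {g : ι} {m : M} (hm : m ∈ ℳ g) :
    homCompAdd ℳ 𝒩 f d m = pr 𝒩 (g + d) (f m) := by
  lift m to ℳ g using hm
  simp [homCompAdd]

include 𝒜 in
lemma homCompAdd_smul (f : M →ₗ[R] N) (d : ι) (r : R) (m : M) :
    homCompAdd ℳ 𝒩 f.toAddMonoidHom d (r • m) = r • homCompAdd ℳ 𝒩 f.toAddMonoidHom d m := by
  refine homogeneous_induction (ℳ := ℳ) (by simp) ?_ ?_ m
  · intro g m hm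
    refine ring_induction (𝒜 := 𝒜) (by simp) ?_ ?_ r
    · intro e r hr
      rw [homCompAdd_of_mem ℳ 𝒩 _ d (smul_mem 𝒜 ℳ hr hm), homCompAdd_of_mem ℳ 𝒩 _ d hm]
      change pr 𝒩 (e + g + d) (f (r • m)) = r • pr 𝒩 (g + d) (f m)
      rw [map_smul, add_assoc, pr_smul 𝒜 𝒩 hr]
    · intro x y hx hy
      rw [add_smul, map_add, hx, hy, add_smul]
  · intro x y hx hy
    rw [smul_add, map_add, hx, hy, map_add, smul_add]

/-- The component of degree `d` of a linear map. -/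
def homComp (f : M →ₗ[R] N) (d : ι) : M →ₗ[R] N where
  toFun := homCompAdd ℳ 𝒩 f.toAddMonoidHom d
  map_add' := map_add _
  map_smul' r m := homCompAdd_smul 𝒜 ℳ 𝒩 f d r m

lemma homComp_of_mem (f : M →ₗ[R] N) (d : ι) {g : ι} {m : M} (hm : m ∈ ℳ g) :
    homComp 𝒜 ℳ 𝒩 f d m = pr 𝒩 (g + d) (f m) := homCompAdd_of_mem ℳ 𝒩 _ d hm

lemma homComp_apply (f : M →ₗ[R] N) (d : ι) (m : M) :
    homComp 𝒜 ℳ 𝒩 f d m = ∑ g ∈ supp ℳ m, pr 𝒩 (g + d) (f (pr ℳ g m)) := by
  conv_lhs => rw [← sum_supp_pr ℳ m]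
  rw [map_sum]
  exact Finset.sum_congr rfl fun g _ => homComp_of_mem 𝒜 ℳ 𝒩 f d (pr_mem ℳ g m)

end Hom

section Hom'

variable {ι : Type} [AddCommGroup ι] [DecidableEq ι]
variable {R : Type u} [CommRing R] {σ : Type u} [SetLike σ R] [AddSubgroupClass σ R]
  (𝒜 : ι → σ) [GradedRing 𝒜]
variable {M : Type u} [AddCommGroup M] [Module R M] (ℳ : ι → AddSubgroup M) [Decomposition ℳ]
  [SetLike.GradedSMul 𝒜 ℳ]
variable {N : Type u} [AddCommGroup N] [Module R N] (𝒩 : ι → AddSubgroup N) [Decomposition 𝒩]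
  [SetLike.GradedSMul 𝒜 𝒩]

lemma homComp_isGrHomDeg (f : M →ₗ[R] N) (d : ι) : IsGrHomDeg ℳ 𝒩 (homComp 𝒜 ℳ 𝒩 f d) d := by
  intro g m hm
  rw [homComp_of_mem 𝒜 ℳ 𝒩 f d hm]
  exact pr_mem 𝒩 _ _

lemma linearMap_ext_homogeneous {f f' : M →ₗ[R] N} (h : ∀ g, ∀ m ∈ ℳ g, f m = f' m) : f = f' := by
  ext m
  refine homogeneous_induction (ℳ := ℳ) (by simp) h ?_ m
  intro x y hx hy
  rw [map_add, map_add, hx, hy]

lemma homComp_of_isGrHomDeg {f : M →ₗ[R] N} {d : ι} (hf : IsGrHomDeg ℳ 𝒩 f d) :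
    homComp 𝒜 ℳ 𝒩 f d = f := by
  apply linearMap_ext_homogeneous ℳ
  intro g m hm
  rw [homComp_of_mem 𝒜 ℳ 𝒩 f d hm, pr_of_mem (hf g m hm)]

lemma homComp_of_isGrHomDeg_ne {f : M →ₗ[R] N} {d e : ι} (hf : IsGrHomDeg ℳ 𝒩 f d) (hde : d ≠ e) :
    homComp 𝒜 ℳ 𝒩 f e = 0 := by
  apply linearMap_ext_homogeneous ℳ
  intro g m hm
  rw [homComp_of_mem 𝒜 ℳ 𝒩 f e hm, pr_of_mem_ne (hf g m hm) (fun h => hde (by simpa using h)),
    LinearMap.zero_apply]

lemma homComp_add (f f' : M →ₗ[R] N) (d : ι) :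
    homComp 𝒜 ℳ 𝒩 (f + f') d = homComp 𝒜 ℳ 𝒩 f d + homComp 𝒜 ℳ 𝒩 f' d := by
  apply linearMap_ext_homogeneous ℳ
  intro g m hm
  rw [LinearMap.add_apply, homComp_of_mem 𝒜 ℳ 𝒩 _ d hm, homComp_of_mem 𝒜 ℳ 𝒩 _ d hm,
    homComp_of_mem 𝒜 ℳ 𝒩 _ d hm, LinearMap.add_apply, map_add]

/-- A finite graded module is generated by finitely many homogeneous elements. -/
lemma exists_homogeneous_generators [Module.Finite R M] :
    ∃ (n : ℕ) (d : Fin n → ι) (x : Fin n → M), (∀ i, x i ∈ ℳ (d i)) ∧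
      Submodule.span R (Set.range x) = ⊤ := by
  classical
  obtain ⟨s, hs⟩ := (Module.Finite.fg_top : (⊤ : Submodule R M).FG)
  let T : Finset (M × ι) := s.biUnion fun m => (supp ℳ m).image fun g => (m, g)
  let e := T.equivFin
  refine ⟨T.card, fun i => (e.symm i : M × ι).2, fun i => pr ℳ (e.symm i : M × ι).2
    (e.symm i : M × ι).1, fun i => pr_mem ℳ _ _, ?_⟩
  rw [eq_top_iff, ← hs, Submodule.span_le]
  intro m hm
  rw [SetLike.mem_coe, ← sum_supp_pr ℳ m]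
  refine Submodule.sum_mem _ fun g hg => Submodule.subset_span ?_
  have hT : (m, g) ∈ T := by
    simp only [T, Finset.mem_biUnion, Finset.mem_image]
    exact ⟨m, hm, g, hg, rfl⟩
  exact ⟨e ⟨(m, g), hT⟩, by simp⟩

/-- Only finitely many components of a linear map out of a finite module are nonzero, and their
sum is the map. -/
lemma exists_sum_homComp [Module.Finite R M] (f : M →ₗ[R] N) :
    ∃ s : Finset ι, f = ∑ d ∈ s, homComp 𝒜 ℳ 𝒩 f d := by
  classical
  obtain ⟨n, e, x, hx, hspan⟩ := exists_homogeneous_generators (R := R) ℳ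
  let s : Finset ι := Finset.univ.biUnion fun i => (supp 𝒩 (f (x i))).image fun k => k - e i
  refine ⟨s, ?_⟩
  apply LinearMap.ext_on hspan
  rintro _ ⟨i, rfl⟩
  rw [LinearMap.sum_apply]
  have h1 : ∀ d ∈ s, homComp 𝒜 ℳ 𝒩 f d (x i) = pr 𝒩 (e i + d) (f (x i)) :=
    fun d _ => homComp_of_mem 𝒜 ℳ 𝒩 f d (hx i)
  rw [Finset.sum_congr rfl h1]
  have h2 : ∑ d ∈ s, pr 𝒩 (e i + d) (f (x i)) =
      ∑ k ∈ s.image (fun d => e i + d), pr 𝒩 k (f (x i)) := by
    rw [Finset.sum_image (by intro a _ b _ h; simpa using h)]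
  rw [h2]
  symm
  apply sum_pr_of_supp_subset
  intro k hk
  rw [Finset.mem_image]
  refine ⟨k - e i, ?_, by abel⟩
  simp only [s, Finset.mem_biUnion, Finset.mem_image, Finset.mem_univ, true_and]
  exact ⟨i, k, hk, rfl⟩

/-- The pieces of `Hom_R(M, N)`. -/
def homGr : ι → AddSubgroup (M →ₗ[R] N) := fun d => (homDeg 𝒜 ℳ 𝒩 d).toAddSubgroup

lemma mem_homGr {f : M →ₗ[R] N} {d : ι} : f ∈ homGr 𝒜 ℳ 𝒩 d ↔ IsGrHomDeg ℳ 𝒩 f d := Iff.rfl

/-- The grading on `Hom_R(M, N)` for `M` finite. -/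
@[reducible] noncomputable def homDec [Module.Finite R M] : Decomposition (homGr 𝒜 ℳ 𝒩) :=
  ofProj (homGr 𝒜 ℳ 𝒩) (fun d f => homComp 𝒜 ℳ 𝒩 f d) (fun d x y => homComp_add 𝒜 ℳ 𝒩 x y d)
    (fun d f => homComp_isGrHomDeg 𝒜 ℳ 𝒩 f d) (fun d f hf => homComp_of_isGrHomDeg 𝒜 ℳ 𝒩 hf)
    (fun d e f hf hde => homComp_of_isGrHomDeg_ne 𝒜 ℳ 𝒩 hf hde)
    (fun f => exists_sum_homComp 𝒜 ℳ 𝒩 f)

lemma homGSMul : SetLike.GradedSMul 𝒜 (homGr 𝒜 ℳ 𝒩) := by
  refine ⟨fun {i j a b} ha hb => ?_⟩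
  intro g m hm
  have := SetLike.GradedSMul.smul_mem (A := 𝒜) (B := 𝒩) ha (hb g m hm)
  rw [vadd_eq_add] at this ⊢
  rw [LinearMap.smul_apply]
  rwa [show g + (i + j) = i + (g + j) by abel]

end Hom'

/-! ## Products -/

section Prod

variable {ι : Type} [AddCommGroup ι] [DecidableEq ι]
variable {R : Type u} [CommRing R] {σ : Type u} [SetLike σ R] [AddSubgroupClass σ R]
  (𝒜 : ι → σ)
variable {M : Type v} [AddCommGroup M] [Module R M] (ℳ : ι → AddSubgroup M)
variable {N : Type v} [AddCommGroup N] [Module R N] (𝒩 : ι → AddSubgroup N)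

/-- The pieces of a product. -/
def prodGr : ι → AddSubgroup (M × N) := fun g => (ℳ g).prod (𝒩 g)

lemma mem_prodGr {g : ι} {x : M × N} : x ∈ prodGr ℳ 𝒩 g ↔ x.1 ∈ ℳ g ∧ x.2 ∈ 𝒩 g := Iff.rfl

/-- The decomposition of a product. -/
@[reducible] noncomputable def prodDec [Decomposition ℳ] [Decomposition 𝒩] :
    Decomposition (prodGr ℳ 𝒩) := by
  classical
  exact ofProj (prodGr ℳ 𝒩) (fun g x => (pr ℳ g x.1, pr 𝒩 g x.2))
    (fun g x y => by ext <;> simp) (fun g x => ⟨pr_mem ℳ g _, pr_mem 𝒩 g _⟩)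
    (fun g x hx => Prod.ext (pr_of_mem hx.1) (pr_of_mem hx.2))
    (fun g h x hx hgh => Prod.ext (pr_of_mem_ne hx.1 hgh) (pr_of_mem_ne hx.2 hgh))
    (fun x => ⟨supp ℳ x.1 ∪ supp 𝒩 x.2, Prod.ext
      (by rw [Prod.fst_sum]; exact (sum_pr_of_supp_subset ℳ Finset.subset_union_left).symm)
      (by rw [Prod.snd_sum]; exact (sum_pr_of_supp_subset 𝒩 Finset.subset_union_right).symm)⟩)

lemma prodGSMul [SetLike.GradedSMul 𝒜 ℳ] [SetLike.GradedSMul 𝒜 𝒩] :
    SetLike.GradedSMul 𝒜 (prodGr ℳ 𝒩) :=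
  ⟨fun {_ _ _ _} ha hb => ⟨SetLike.GradedSMul.smul_mem (A := 𝒜) (B := ℳ) ha hb.1,
    SetLike.GradedSMul.smul_mem (A := 𝒜) (B := 𝒩) ha hb.2⟩⟩

end Prod

/-! ## Finite free graded modules -/

section Free

variable {ι : Type} [AddCommGroup ι] [DecidableEq ι]
variable {R : Type u} [CommRing R] {σ : Type u} [SetLike σ R] [AddSubgroupClass σ R]
  (𝒜 : ι → σ) [GradedRing 𝒜]

/-- The pieces of the free module `R^n` with basis vectors in degrees `d i`. -/
def freeGr {n : ℕ} (d : Fin n → ι) : ι → AddSubgroup (Fin n → R) :=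
  fun g => AddSubgroup.pi Set.univ fun i => AddSubgroup.ofClass (𝒜 (g - d i))

lemma mem_freeGr {n : ℕ} {d : Fin n → ι} {g : ι} {x : Fin n → R} :
    x ∈ freeGr 𝒜 d g ↔ ∀ i, x i ∈ 𝒜 (g - d i) := by
  simp only [freeGr, AddSubgroup.mem_pi, Set.mem_univ, true_implies]
  rfl

/-- The decomposition of a finite free graded module. -/
@[reducible] noncomputable def freeDec {n : ℕ} (d : Fin n → ι) : Decomposition (freeGr 𝒜 d) := by
  classical
  exact ofProj (freeGr 𝒜 d) (fun g x i => rpr 𝒜 (g - d i) (x i))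
    (fun g x y => by ext; simp) (fun g x => (mem_freeGr 𝒜).2 fun i => rpr_mem 𝒜 _ _)
    (fun g x hx => funext fun i => rpr_of_mem ((mem_freeGr 𝒜).1 hx i))
    (fun g h x hx hgh => funext fun i =>
      rpr_of_mem_ne ((mem_freeGr 𝒜).1 hx i) (fun h' => hgh (by simpa using h')))
    (fun x => ⟨Finset.univ.biUnion fun i => (rsupp 𝒜 (x i)).image fun g => g + d i, by
      funext i
      rw [Finset.sum_apply]
      have h2 : ∀ s : Finset ι, ∑ g ∈ s, rpr 𝒜 (g - d i) (x i) =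
          ∑ k ∈ s.image (fun g => g - d i), rpr 𝒜 k (x i) := fun s => by
        rw [Finset.sum_image (by intro a _ b _ h; simpa using h)]
      rw [h2]
      conv_lhs => rw [← sum_rsupp_rpr 𝒜 (x i)]
      apply Finset.sum_subset
      · intro k hk
        rw [Finset.mem_image]
        refine ⟨k + d i, ?_, by abel⟩
        simp only [Finset.mem_biUnion, Finset.mem_image, Finset.mem_univ, true_and]
        exact ⟨i, k, hk, rfl⟩
      · intro k _ hk
        by_contra h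
        exact hk ((mem_rsupp 𝒜).2 h)⟩)

lemma freeGSMul {n : ℕ} (d : Fin n → ι) : SetLike.GradedSMul 𝒜 (freeGr 𝒜 d) := by
  refine ⟨fun {i j a b} ha hb => (mem_freeGr 𝒜).2 fun k => ?_⟩
  rw [mem_freeGr] at hb
  rw [vadd_eq_add, add_sub_assoc, Pi.smul_apply, smul_eq_mul]
  exact SetLike.mul_mem_graded ha (hb k)

variable {M : Type u} [AddCommGroup M] [Module R M] (ℳ : ι → AddSubgroup M) [Decomposition ℳ]
  [SetLike.GradedSMul 𝒜 ℳ]

/-- Every finite graded module is a homogeneous quotient of a finite free graded one. -/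
lemma exists_free_surjection [Module.Finite R M] :
    ∃ (n : ℕ) (d : Fin n → ι) (f : (Fin n → R) →ₗ[R] M), Function.Surjective f ∧
      IsGrHom (freeGr 𝒜 d) ℳ f := by
  classical
  obtain ⟨n, d, x, hx, hspan⟩ := exists_homogeneous_generators (R := R) ℳ
  refine ⟨n, d, Fintype.linearCombination R x, ?_, ?_⟩
  · rw [← LinearMap.range_eq_top, Fintype.range_linearCombination, hspan]
  · intro g m hm
    rw [mem_freeGr] at hm
    rw [Fintype.linearCombination_apply]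
    refine sum_mem fun i _ => ?_
    have := smul_mem 𝒜 ℳ (hm i) (hx i)
    rwa [sub_add_cancel] at this

end Free

end K760.Gr
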