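import Groth.Agent.GrLC.K760.Gr
import Groth.Agent.GrLC.K761.Laurent
import Mathlib.RingTheory.Localization.Defs
import Mathlib.RingTheory.Localization.Integer

/-!
# The grading on the localization at homogeneous elements, and on quotients by homogeneous ideals
-/

set_option autoImplicit false
set_option linter.unusedSectionVars false
set_option linter.unusedVariables false
set_option linter.style.haveILetI false

universe u

open DirectSum

namespace K760.GrLoc

open K760.Gr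

variable {ι : Type} [AddCommGroup ι] [DecidableEq ι]

section Loc

variable {R : Type u} [CommRing R] {σ : Type u} [SetLike σ R] [AddSubgroupClass σ R]
  (𝒜 : ι → σ) [GradedRing 𝒜]
variable (H : Submonoid R) (hH : ∀ h ∈ H, ∃ d, h ∈ 𝒜 d) (B : Type u) [CommRing B] [Algebra R B]
  [IsLocalization H B]

include hH in
lemma expand_isUnit (h : H) : IsUnit (K761.Laurent.expand 𝒜 B (h : R)) := by
  obtain ⟨d, hd⟩ := hH h h.2
  rw [K761.Laurent.expand_of_mem 𝒜 B hd]
  obtain ⟨v, hv⟩ := IsLocalization.map_units B h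
  rw [← hv]
  refine IsUnit.of_mul_eq_one (AddMonoidAlgebra.single (-d) ((v⁻¹ : Bˣ) : B)) ?_
  rw [AddMonoidAlgebra.single_mul_single, add_neg_cancel, Units.mul_inv]
  rfl

/-- The coaction of a graded localization. -/
noncomputable def coact : B →+* AddMonoidAlgebra B ι :=
  IsLocalization.lift (M := H) (g := K761.Laurent.expand 𝒜 B) (expand_isUnit 𝒜 H hH B)

lemma coact_algebraMap (r : R) :
    coact 𝒜 H hH B (algebraMap R B r) = K761.Laurent.expand 𝒜 B r :=
  IsLocalization.lift_eq _ _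

/-- The pieces of a graded localization. -/
noncomputable def locGr (g : ι) : AddSubgroup B where
  carrier := {x | coact 𝒜 H hH B x = AddMonoidAlgebra.single g x}
  zero_mem' := by
    change coact 𝒜 H hH B 0 = AddMonoidAlgebra.single g 0
    rw [map_zero, AddMonoidAlgebra.single_zero]
  add_mem' := by
    intro a b ha hb
    change coact 𝒜 H hH B (a + b) = AddMonoidAlgebra.single g (a + b)
    rw [map_add, ha, hb, AddMonoidAlgebra.single_add]
  neg_mem' := by
    intro a ha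
    change coact 𝒜 H hH B (-a) = AddMonoidAlgebra.single g (-a)
    rw [map_neg, ha, AddMonoidAlgebra.single_neg]

lemma mem_locGr {g : ι} {x : B} :
    x ∈ locGr 𝒜 H hH B g ↔ coact 𝒜 H hH B x = AddMonoidAlgebra.single g x := Iff.rfl

lemma algebraMap_mem {i : ι} {a : R} (ha : a ∈ 𝒜 i) : algebraMap R B a ∈ locGr 𝒜 H hH B i := by
  rw [mem_locGr, coact_algebraMap, K761.Laurent.expand_of_mem 𝒜 B ha]

lemma mul_mem_locGr {g h : ι} {x y : B} (hx : x ∈ locGr 𝒜 H hH B g)
    (hy : y ∈ locGr 𝒜 H hH B h) : x * y ∈ locGr 𝒜 H hH B (g + h) := by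
  rw [mem_locGr] at *
  rw [map_mul, hx, hy, AddMonoidAlgebra.single_mul_single]

lemma one_mem_locGr : (1 : B) ∈ locGr 𝒜 H hH B 0 := by
  rw [mem_locGr, map_one]; rfl

/-- The inverse of a homogeneous unit. -/
lemma inv_mem_locGr {g : ι} {x y : B} (hx : x ∈ locGr 𝒜 H hH B g) (hxy : y * x = 1) :
    y ∈ locGr 𝒜 H hH B (-g) := by
  rw [mem_locGr] at *
  have h1 : coact 𝒜 H hH B y * AddMonoidAlgebra.single g x = 1 := by
    rw [← hx, ← map_mul, hxy, map_one]
  calc coact 𝒜 H hH B y = coact 𝒜 H hH B y *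
        (AddMonoidAlgebra.single g x * AddMonoidAlgebra.single (-g) y) := by
          rw [AddMonoidAlgebra.single_mul_single, add_neg_cancel, mul_comm x, hxy]
          exact (mul_one _).symm
    _ = AddMonoidAlgebra.single (-g) y := by rw [← mul_assoc, h1, one_mul]

lemma mk'_mem {i d : ι} {a : R} (ha : a ∈ 𝒜 i) (h : H) (hd : (h : R) ∈ 𝒜 d) :
    IsLocalization.mk' B a h ∈ locGr 𝒜 H hH B (i - d) := by
  have h1 : IsLocalization.mk' B (1 : R) h * algebraMap R B h = 1 := by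
    rw [mul_comm, IsLocalization.mul_mk'_eq_mk'_of_mul, mul_one, IsLocalization.mk'_self']
  have h2 := inv_mem_locGr 𝒜 H hH B (algebraMap_mem 𝒜 H hH B hd) h1
  have h3 := mul_mem_locGr 𝒜 H hH B (algebraMap_mem 𝒜 H hH B ha) h2
  rw [IsLocalization.mul_mk'_eq_mk'_of_mul, mul_one, ← sub_eq_add_neg] at h3
  exact h3

/-- Every element is a sum of homogeneous ones, explicitly. -/
lemma mk'_eq_sum (a : R) (h : H) :
    IsLocalization.mk' B a h = ∑ i ∈ rsupp 𝒜 a, IsLocalization.mk' B (rpr 𝒜 i a) h := by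
  have h1 : ∀ b : R, IsLocalization.mk' B b h = algebraMap R B b * IsLocalization.mk' B 1 h :=
    fun b => IsLocalization.mk'_eq_mul_mk'_one b h
  rw [h1 a, Finset.sum_congr rfl fun i _ => h1 (rpr 𝒜 i a), ← Finset.sum_mul, ← map_sum,
    sum_rsupp_rpr]

/-- The projection onto the piece of degree `g`. -/
noncomputable def locPr (g : ι) (x : B) : B := (coact 𝒜 H hH B x).coeff g

lemma locPr_add (g : ι) (x y : B) :
    locPr 𝒜 H hH B g (x + y) = locPr 𝒜 H hH B g x + locPr 𝒜 H hH B g y := by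
  simp [locPr]

lemma locPr_of_mem {g : ι} {x : B} (hx : x ∈ locGr 𝒜 H hH B g) : locPr 𝒜 H hH B g x = x := by
  rw [mem_locGr] at hx
  simp [locPr, hx]

lemma locPr_of_mem_ne {g h : ι} {x : B} (hx : x ∈ locGr 𝒜 H hH B g) (hgh : g ≠ h) :
    locPr 𝒜 H hH B h x = 0 := by
  rw [mem_locGr] at hx
  simp [locPr, hx, hgh]

lemma locPr_sum (g : ι) {κ : Type*} (s : Finset κ) (f : κ → B) :
    locPr 𝒜 H hH B g (∑ k ∈ s, f k) = ∑ k ∈ s, locPr 𝒜 H hH B g (f k) :=
  map_sum (AddMonoidHom.mk' (locPr 𝒜 H hH B g) (locPr_add 𝒜 H hH B g)) _ _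

lemma locPr_mk' (g : ι) (a : R) (h : H) {d : ι} (hd : (h : R) ∈ 𝒜 d) :
    locPr 𝒜 H hH B g (IsLocalization.mk' B a h) = IsLocalization.mk' B (rpr 𝒜 (g + d) a) h := by
  rw [mk'_eq_sum 𝒜 H B a h, locPr_sum]
  have hz : ∀ i, i ≠ g + d → locPr 𝒜 H hH B g (IsLocalization.mk' B (rpr 𝒜 i a) h) = 0 := by
    intro i hi
    exact locPr_of_mem_ne 𝒜 H hH B (mk'_mem 𝒜 H hH B (rpr_mem 𝒜 i a) h hd)
      (fun h' => hi (by rw [← h']; abel))
  have hs : locPr 𝒜 H hH B g (IsLocalization.mk' B (rpr 𝒜 (g + d) a) h) =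
      IsLocalization.mk' B (rpr 𝒜 (g + d) a) h := by
    apply locPr_of_mem
    have := mk'_mem 𝒜 H hH B (rpr_mem 𝒜 (g + d) a) h hd
    rwa [add_sub_cancel_right] at this
  by_cases hg : g + d ∈ rsupp 𝒜 a
  · rw [Finset.sum_eq_single (g + d) (fun i _ hi => hz i hi) (fun h' => absurd hg h'), hs]
  · rw [Finset.sum_eq_zero (fun i hi => hz i (fun h' => hg (h' ▸ hi)))]
    have : rpr 𝒜 (g + d) a = 0 := by
      by_contra h'
      exact hg ((mem_rsupp 𝒜).2 h')
    rw [this, IsLocalization.mk'_zero]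

/-- The grading of the localization. -/
@[reducible] noncomputable def locDec : Decomposition (locGr 𝒜 H hH B) :=
  ofProj (locGr 𝒜 H hH B) (locPr 𝒜 H hH B) (locPr_add 𝒜 H hH B)
    (by
      intro g x
      obtain ⟨a, h, rfl⟩ := IsLocalization.exists_mk'_eq H x
      obtain ⟨d, hd⟩ := hH h h.2
      rw [locPr_mk' 𝒜 H hH B g a h hd]
      have := mk'_mem 𝒜 H hH B (rpr_mem 𝒜 (g + d) a) h hd
      rwa [add_sub_cancel_right] at this)
    (fun g x hx => locPr_of_mem 𝒜 H hH B hx)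
    (fun g h x hx hgh => locPr_of_mem_ne 𝒜 H hH B hx hgh)
    (by
      intro x
      obtain ⟨a, h, rfl⟩ := IsLocalization.exists_mk'_eq H x
      obtain ⟨d, hd⟩ := hH h h.2
      refine ⟨(rsupp 𝒜 a).image (fun i => i - d), ?_⟩
      rw [Finset.sum_image (by intro i _ j _ h'; simpa using h')]
      simp only [locPr_mk' 𝒜 H hH B _ a h hd, sub_add_cancel]
      exact mk'_eq_sum 𝒜 H B a h)

/-- The graded ring structure of the localization. -/
@[reducible] noncomputable def locGradedRing : GradedRing (locGr 𝒜 H hH B) :=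
  { locDec 𝒜 H hH B with
    one_mem := one_mem_locGr 𝒜 H hH B
    mul_mem := fun {_ _ _ _} hx hy => mul_mem_locGr 𝒜 H hH B hx hy }

/-- Homogeneous elements of the localization are homogeneous fractions. -/
lemma exists_mk'_of_mem {g : ι} {x : B} (hx : x ∈ locGr 𝒜 H hH B g) :
    ∃ (d : ι) (a : R) (h : H), (h : R) ∈ 𝒜 d ∧ a ∈ 𝒜 (g + d) ∧ x = IsLocalization.mk' B a h := by
  obtain ⟨a, h, rfl⟩ := IsLocalization.exists_mk'_eq H x
  obtain ⟨d, hd⟩ := hH h h.2
  refine ⟨d, rpr 𝒜 (g + d) a, h, hd, rpr_mem 𝒜 _ _, ?_⟩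
  rw [← locPr_mk' 𝒜 H hH B g a h hd, locPr_of_mem 𝒜 H hH B hx]

end Loc

section Quot

variable {R : Type u} [CommRing R] (𝒜 : ι → AddSubgroup R) [GradedRing 𝒜] (q : HomogeneousIdeal 𝒜)

/-- The graded ring structure of the quotient by a homogeneous ideal. -/
@[reducible] noncomputable def quotGradedRing : GradedRing (Gr.quotGr 𝒜 q.toIdeal) :=
  { quotDec 𝒜 (P := q.toIdeal) q.isHomogeneous with
    one_mem := ⟨1, SetLike.one_mem_graded 𝒜, rfl⟩
    mul_mem := by
      rintro i j _ _ ⟨a, ha, rfl⟩ ⟨b, hb, rfl⟩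
      exact ⟨a * b, SetLike.mul_mem_graded ha hb, rfl⟩ }

end Quot

end K760.GrLoc
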